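import Cfsg.Agent.H996.Eight.Enc

/-!
# The table of the spherical machine: `E₆`, node `0` (helper996, for S4899; made by a program)

27 states, 3 classes; 2 certificates.
-/

set_option autoImplicit false
set_option maxRecDepth 20000

namespace Cfsg.Agent.H996.Eight.TabE6a

open Cfsg.Agent.H967.Sph Cfsg.Agent.H64.Dl.Sph Cfsg.Agent.H996.Eight.Cert Cfsg.Agent.H996.Eight.En

/-- the Cartan matrix -/
def A (i k : Fin 6) : ℤ := (([[2, 0, -1, 0, 0, 0], [0, 2, 0, -1, 0, 0], [-1, 0, 2, -1, 0, 0], [0, -1, -1, 2, -1, 0], [0, 0, 0, -1, 2, -1], [0, 0, 0, 0, -1, 2]] : List (List ℤ)).getD i []).getD k 0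

/-- the encoded table -/
def enc : Enc 6 27 3 where
  j := 0
  V := 549926179856535063715633791690885289912566772753620467376030273883509153644267938833792409876427973054102387520977850301226950212375482603129032300661063243398181787783346544964949323305158477961
  S := 1139395014674102314358338929916026360906441336983759676192772494568256404425039881297101316738411841204510689651935724757675042995148009057146370173393505959103459286525626652107617261303464807305867132788437668791288888089310136802505263978656636653748220675902353854052701206737160065347476106111808449773803693309875154298697597715822704668831841537510189851136464681109567743852444450968665826613866962855382941952922169544471272228865033839576811731872887347176091066636801434189825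
  C := 2810073738465311754318946513477233050656
  P := 46360298402139176196407690931832928515892545624235484471079939060446919723581440
  Q := 106730878190888066589315641192960
  CP := 46360298402139176196407690931832928515893892132195214590859190616998983713685503
  CQ := 106730878190888066589315641192960
  R := 12583936
  W := 6606210499285954464608670347121122365367022368617815811993764096

/-- the table -/
def tab : Tab A 0 27 3 :=
  enc.tab A (by decide +kernel) (by decide +kernel) (by decide +kernel) (by decide +kernel) (by decide +kernel)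
    (by decide +kernel) (by decide +kernel)

/-- the exponents of the parameters -/
def e (i : Fin 6) : ℕ := ([1, 1, 1, 1, 1, 1] : List ℕ).getD i 0

def matL : List (List (List ℤ)) := [[[], [0, 1], []], [[0, 1], [0, -1, 1, 1, 1, 2, 2, 2, 1, 1], [0, 0, 0, 0, 0, 0, 0, 0, 1, 1, 1, 1, 1]], [[], [0, 0, 0, 0, 0, 0, 0, 0, 1, 1, 1, 1, 1], [0, 0, 0, 0, 0, 0, 0, 0, -1, 0, 0, 0, 0, 2, 1, 1, 1, 1]]]

def bbL : List (List (List ℤ)) := [[[], [0, 1, 1, 1, 2, 2, 2, 2, 2, 1, 1, 1], []], [[1], [-1, 1, 1, 1, 2, 2, 2, 1, 1], [0, 0, 0, 0, 0, 0, 0, 1, 1, 1, 1, 1]], [[], [1, 1, 1, 2, 1, 1, 1], [-1, 0, 0, -1, 1, 1, 1, 2, 2, 1, 1, 1]]]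

def kL : List (List ℤ) := [[1], [0, 1, 1, 1, 2, 2, 2, 2, 2, 1, 1, 1], [0, 0, 0, 0, 0, 0, 0, 0, 1, 1, 1, 1, 2, 1, 1, 1, 1]]

/-- the data -/
def data : Data A 0 27 3 where
  t := tab
  e := e
  wl := enc.wl
  mat c c' := (matL.getD c []).getD c' []
  kk c := kL.getD c []
  ff := [1, 1, 1, 2, 2, 2, 2, 2, 1, 1, 1]
  bb c c' := (bbL.getD c []).getD c' []
  chkM := by decide +kernel
  chkK := by decide +kernel
  chkF := by decide +kernel
  chkP := by decide +kernel
  chkB := by decide +kernel
  wo := by decide +kernel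
  ws := by decide +kernel

/-- `1*q^1*P8*P9 / 1` (`Pn` the cyclotomic polynomials) -/
def c1 : Crt 3 where
  th := [-1, 0, 0, 0, 1, 1, 1, 1, 1]
  nu c := ([[0, 0, 0, 0, 1, 1, 0, 0, 1, 1], [0, 0, 0, -1, 0, 1, 1], [-1, -1]] : List (List ℤ)).getD c []
  steps := [(2, [(0, [-1]), (2, [0, 1, 0, 0, 0, 1])]), (1, [(0, [1])])]
  dn := [0, 1, 0, 0, 1, 1, 0, 1, 1, 0, 0, 1]
  den := 1

theorem ok1 : c1.ok (data.t.cls data.t.o) data.bb data.kk := by decide +kernel

theorem dvd1 : pDvd c1.den c1.dn := by decide +kernel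

/-- `1*q^2*P4*P5*P8*P12 / 1` (`Pn` the cyclotomic polynomials) -/
def c2 : Crt 3 where
  th := [-1, 0, 0, -1]
  nu c := ([[0, 0, 0, 0, 0, 1, 2, 3, 4, 5, 5, 5, 5, 4, 3, 2, 1], [0, 0, 0, 0, -1, -1, -1, -1, -1], [1, 1, 1, 1]] : List (List ℤ)).getD c []
  steps := [(2, [(0, [-1]), (2, [0, 1, 0, 0, 0, 1])]), (1, [(0, [1])])]
  dn := [0, 0, 1, 1, 1, 1, 2, 1, 2, 2, 2, 1, 2, 1, 1, 1, 1]
  den := 1

theorem ok2 : c2.ok (data.t.cls data.t.o) data.bb data.kk := by decide +kernel

theorem dvd2 : pDvd c2.den c2.dn := by decide +kernel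

end Cfsg.Agent.H996.Eight.TabE6a
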