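import Cfsg.Agent.H996.Eight.Enc

/-!
# The table of the spherical machine: `²E₆`, node `0` (helper996, for S4899; made by a program)

24 states, 5 classes; 4 certificates.
-/

set_option autoImplicit false
set_option maxRecDepth 20000

namespace Cfsg.Agent.H996.Eight.TabTwEa

open Cfsg.Agent.H967.Sph Cfsg.Agent.H64.Dl.Sph Cfsg.Agent.H996.Eight.Cert Cfsg.Agent.H996.Eight.En

/-- the Cartan matrix -/
def A (i k : Fin 4) : ℤ := (([[2, -1, 0, 0], [-1, 2, -1, 0], [0, -2, 2, -1], [0, 0, -1, 2]] : List (List ℤ)).getD i []).getD k 0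

/-- the encoded table -/
def enc : Enc 4 24 5 where
  j := 0
  V := 21013801940199010778206505136810582839326631966205552136568781602941527279857127289877008011566094265508635254163593
  S := 219102856552418326397026619362445635411598576327450320405242928237011927487343320270139420186610669813390253723825317771858664716782433645530079029259169855023969409213513765352233141711939252914395385814974586870772973141136269757079122756008716649981228314218956992630909198079648333825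
  C := 170173342163579331375162832916087840
  P := 37995022776389900215743669652279557517133827294378444095787674230587392
  Q := 352029734108865814464635136
  CP := 1765157046060728488021291324189876436589227970426464577155146875928575999
  CQ := 352029734180923408502563072
  R := 25302732375040
  W := 516841254838192504595240287612430520127795394459493073152

/-- the table -/
def tab : Tab A 0 24 5 :=
  enc.tab A (by decide +kernel) (by decide +kernel) (by decide +kernel) (by decide +kernel) (by decide +kernel)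
    (by decide +kernel) (by decide +kernel)

/-- the exponents of the parameters -/
def e (i : Fin 4) : ℕ := ([1, 1, 2, 2] : List ℕ).getD i 0

def matL : List (List (List ℤ)) := [[[], [0, 1], [], [], []], [[0, 1], [0, -1, 1, 1, 0, 1, 0, 1], [0, 0, 0, 0, 0, 0, 1, 0, 1, 0, 1], [0, 0, 0, 0, 0, 0, 0, 0, 0, 0, 0, 1], []], [[], [0, 0, 0, 0, 0, 0, 1, 0, 1, 0, 1], [0, 0, 0, 0, 0, 0, -1, 1, -1, 1, -1, 1], [0, 0, 0, 0, 0, 0, 0, 0, 0, 0, 0, 0, 1, 0, 1, 0, 1], []], [[], [0, 0, 0, 0, 0, 0, 0, 0, 0, 0, 0, 1], [0, 0, 0, 0, 0, 0, 0, 0, 0, 0, 0, 0, 1, 0, 1, 0, 1], [0, 0, 0, 0, 0, 0, 0, 0, 0, 0, 0, -1, 0, 1, -1, 1, 0, 1, 1, 0, 1], [0, 0, 0, 0, 0, 0, 0, 0, 0, 0, 0, 0, 0, 0, 0, 0, 0, 0, 0, 0, 0, 1]], [[], [], [], [0, 0, 0, 0, 0, 0, 0, 0, 0, 0, 0, 0, 0, 0, 0, 0, 0, 0, 0, 0, 0, 1], [0, 0, 0, 0, 0, 0, 0, 0, 0, 0, 0, 0, 0, 0, 0, 0, 0, 0, 0, 0, 0, -1, 1]]]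

def bbL : List (List (List ℤ)) := [[[], [0, 1, 1, 0, 1, 1, 1, 1, 0, 1, 1], [], [], []], [[1], [-1, 1, 1, 0, 1, 0, 1], [0, 0, 0, 0, 0, 1, 0, 1, 0, 1], [0, 0, 0, 0, 0, 0, 0, 0, 0, 0, 1], []], [[], [1, 1, 0, 1, 1], [-1, 0, 1, -1, 0, 1], [0, 0, 0, 0, 0, 0, 1, 1, 0, 1, 1], []], [[], [1], [0, 1, 0, 1, 0, 1], [-1, 0, 1, -1, 1, 0, 1, 1, 0, 1], [0, 0, 0, 0, 0, 0, 0, 0, 0, 0, 1]], [[], [], [], [1, 1, 0, 1, 1, 1, 1, 0, 1, 1], [-1, 0, 1, -1, 0, 0, 0, 1, -1, 0, 1]]]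

def kL : List (List ℤ) := [[1], [0, 1, 1, 0, 1, 1, 1, 1, 0, 1, 1], [0, 0, 0, 0, 0, 0, 1, 0, 1, 0, 1, 1, 0, 1, 0, 1], [0, 0, 0, 0, 0, 0, 0, 0, 0, 0, 0, 1, 1, 0, 1, 1, 1, 1, 0, 1, 1], [0, 0, 0, 0, 0, 0, 0, 0, 0, 0, 0, 0, 0, 0, 0, 0, 0, 0, 0, 0, 0, 1]]

/-- the data -/
def data : Data A 0 24 5 where
  t := tab
  e := e
  wl := enc.wl
  mat c c' := (matL.getD c []).getD c' []
  kk c := kL.getD c []
  ff := [1, 1, 0, 1, 1, 1, 1, 0, 1, 1]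
  bb c c' := (bbL.getD c []).getD c' []
  chkM := by decide +kernel
  chkK := by decide +kernel
  chkF := by decide +kernel
  chkP := by decide +kernel
  chkB := by decide +kernel
  wo := by decide +kernel
  ws := by decide +kernel

/-- `1*q^1*P8*P18 / 1` (`Pn` the cyclotomic polynomials) -/
def c1 : Crt 5 where
  th := [-1, 0, 0, -1, 0, -1, 0, 0, -1]
  nu c := ([[0, 0, 0, 0, 0, 0, 1, 1], [0, 0, 0, 0, 0, -1], [0, 0, 0, 1, 1], [0, 0, -1], [1, 1]] : List (List ℤ)).getD c []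
  steps := [(3, [(0, [1, 0, 1]), (2, [0, -1, -1, -1, 0, 0, -1, -1, -1]), (3, [0, 0, 1, 1, 0, 1, 1, 1, 1, 0, 1, 1]), (4, [0, 0, 0, 0, 0, 0, 0, 0, 0, 0, -1, -1])]), (2, [(0, [-1]), (2, [0, 1, 0, 0, 0, 0, 1])]), (4, [(4, [1])]), (1, [(0, [1])])]
  dn := [0, 1, 0, 0, -1, 1, 0, 1, -1, 0, 0, 1]
  den := 1

theorem ok1 : c1.ok (data.t.cls data.t.o) data.bb data.kk := by decide +kernel

theorem dvd1 : pDvd c1.den c1.dn := by decide +kernel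

/-- `1*q^2*P4*P8*P10*P12 / 1` (`Pn` the cyclotomic polynomials) -/
def c2 : Crt 5 where
  th := [-1, 0, 1, 0, 1, 1, 1, 1]
  nu c := ([[0, 0, 0, 0, 0, 0, 0, 0, 0, 1, 0, 0, 0, 0, 1], [0, 0, 0, 0, 0, 0, 0, 0, -1, 1, 0, 1], [0, 0, 0, 0, 0, -1, 0, 0, 0, 1], [0, 0, 0, -1, 0, -1, 1], [-1, 0, 0, 0, 0, -1]] : List (List ℤ)).getD c []
  steps := [(3, [(0, [1, 1, 0, 1, -1, 1, -1]), (1, [-1, -1, 0, -1, -1, -1, -1, 0, -1, -1]), (2, [0, 0, -1, 0, -1, 0, -1, -1, 0, -1, 0, -1])]), (2, [(0, [-1]), (2, [0, 1, 0, 0, 0, 0, 1])]), (4, [(4, [1])]), (1, [(0, [1])])]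
  dn := [0, 0, 1, -1, 1, -1, 2, -1, 2, -2, 2, -1, 2, -1, 1, -1, 1]
  den := 1

theorem ok2 : c2.ok (data.t.cls data.t.o) data.bb data.kk := by decide +kernel

theorem dvd2 : pDvd c2.den c2.dn := by decide +kernel

/-- `1*q^3*P2^4*P6^2*P10*P18 / 2` (`Pn` the cyclotomic polynomials) -/
def c3 : Crt 5 where
  th := [-1, 0, 1, -1, 0, -1]
  nu c := ([[0, 0, 0, 0, 0, 0, 0, 0, 0, 0, 0, 0, 1, 1, 0, 1, 1, 1, 1, 0, 1, 1], [0, 0, 0, 0, 0, 0, 0, 0, 0, 0, 0, -1, 0, 1, -1, 0, -1], [0, 0, 0, 0, 0, 0, 0, 0, -1, 0, 1, -1, 0, 1], [0, 0, 0, 0, 0, 1, 0, 1, -1, 0, 1], [-1, -1, 0, -1, -1, -1, -1, 0, -1, -1]] : List (List ℤ)).getD c []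
  steps := [(3, [(0, [1, -1, 1, 0, 0, 0, -1, 1, 1]), (1, [0, 2, 2, 0, 2, 2, 2, 2, 0, 2, 2]), (2, [0, -1, -1, -1, -2, -2, -3, -2, -2, -3, -2, -2, -1, -1, -1])]), (2, [(0, [-1]), (2, [0, 1, 0, 0, 0, 0, 1])]), (4, [(4, [1])]), (1, [(0, [1])])]
  dn := [0, 0, 0, 1, 1, 0, 1, 1, 1, 1, 0, 1, 2, 1, 0, 1, 1, 1, 1, 0, 1, 1]
  den := 2

theorem ok3 : c3.ok (data.t.cls data.t.o) data.bb data.kk := by decide +kernel

theorem dvd3 : pDvd c3.den c3.dn := by decide +kernel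

/-- `1*q^3*P3^2*P8*P10*P18 / 2` (`Pn` the cyclotomic polynomials) -/
def c4 : Crt 5 where
  th := [-1, 0, 1, -1, 0, 1]
  nu c := ([[0, 0, 0, 0, 0, 0, 0, 0, 0, 0, 0, 0, 1, 1, 1, 0, 0, 1, 1, 1], [0, 0, 0, 0, 0, 0, 0, 0, 0, 0, 0, -1, 0, 0, 1], [0, 0, 0, 0, 0, 0, 0, 0, -1, 0, 0, -1], [0, 0, 0, 0, 0, 1, 0, 0, -1], [1, 1, 1, 0, 0, 1, 1, 1]] : List (List ℤ)).getD c []
  steps := [(2, [(0, [-1, 1, -2, 2, -1]), (1, [1, 0, 0, 1, 0, 1, 0, 0, 1]), (2, [0, 0, 0, 0, -1, 1, -1, 1, -1])]), (4, [(0, [1]), (2, [0, -1, 0, 0, 0, 0, -1]), (4, [0, 0, 0, 0, 0, 0, 0, 1])]), (3, [(0, [-1]), (2, [0, 1, 0, 0, 0, 0, 1])]), (1, [(0, [1])])]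
  dn := [0, 0, 0, 1, 1, 2, -1, 1, -1, 5, 0, 3, -4, 3, 0, 5, -1, 1, -1, 2, 1, 1]
  den := 2

theorem ok4 : c4.ok (data.t.cls data.t.o) data.bb data.kk := by decide +kernel

theorem dvd4 : pDvd c4.den c4.dn := by decide +kernel

end Cfsg.Agent.H996.Eight.TabTwEa
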