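import Cfsg.Agent.H996.Eight.Enc

/-!
# The table of the spherical machine: `²E₆`, node `3` (helper996, for S4899; made by a program)

24 states, 5 classes; 4 certificates.
-/

set_option autoImplicit false
set_option maxRecDepth 20000

namespace Cfsg.Agent.H996.Eight.TabTwEb

open Cfsg.Agent.H967.Sph Cfsg.Agent.H64.Dl.Sph Cfsg.Agent.H996.Eight.Cert Cfsg.Agent.H996.Eight.En

/-- the Cartan matrix -/
def A (i k : Fin 4) : ℤ := (([[2, -1, 0, 0], [-1, 2, -1, 0], [0, -2, 2, -1], [0, 0, -1, 2]] : List (List ℤ)).getD i []).getD k 0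

/-- the encoded table -/
def enc : Enc 4 24 5 where
  j := 3
  V := 18551813145639164846928938438622731683145322729980255479332629328569643779114952504221703243131825233855364089813128
  S := 209585948347032473388732970014326661067019478864286225440091573055080811631635641918521840323481389960760558027924482972446772979876024392460794981171878097421696060824418990709289157128957192767635028664153743602587170420898821481453121671536296703818781583818173854995363941488944742400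
  C := 170173342163579295669533205362410528
  P := 37995022776389900215743671079527250221795632900091847944390629043208192
  Q := 15496162291301456167483478576
  CP := 1765157046060728488021291325614354216206943458759285923392767603727400959
  CQ := 640881819876013052428030464
  R := 25301659681792
  W := 590592979821248420990642954591299027873614546136750883328

/-- the table -/
def tab : Tab A 3 24 5 :=
  enc.tab A (by decide +kernel) (by decide +kernel) (by decide +kernel) (by decide +kernel) (by decide +kernel)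
    (by decide +kernel) (by decide +kernel)

/-- the exponents of the parameters -/
def e (i : Fin 4) : ℕ := ([1, 1, 2, 2] : List ℕ).getD i 0

def matL : List (List (List ℤ)) := [[[], [0, 0, 1], [], [], []], [[0, 0, 1], [0, 0, -1, 0, 1, 0, 1, 1, 1], [0, 0, 0, 0, 0, 0, 0, 0, 0, 1, 1, 1], [0, 0, 0, 0, 0, 0, 0, 0, 0, 0, 0, 0, 0, 1], []], [[], [0, 0, 0, 0, 0, 0, 0, 0, 0, 1, 1, 1], [0, 0, 0, 0, 0, 0, 0, 0, 0, -1, -1, 0, 1, 1], [0, 0, 0, 0, 0, 0, 0, 0, 0, 0, 0, 0, 0, 0, 0, 1, 1, 1], []], [[], [0, 0, 0, 0, 0, 0, 0, 0, 0, 0, 0, 0, 0, 1], [0, 0, 0, 0, 0, 0, 0, 0, 0, 0, 0, 0, 0, 0, 0, 1, 1, 1], [0, 0, 0, 0, 0, 0, 0, 0, 0, 0, 0, 0, 0, -1, 0, 0, -1, 0, 1, 1, 1, 1, 1], [0, 0, 0, 0, 0, 0, 0, 0, 0, 0, 0, 0, 0, 0, 0, 0, 0, 0, 0, 0, 0, 0, 0, 0, 1]], [[], [], [], [0, 0, 0, 0, 0, 0, 0, 0, 0, 0, 0, 0, 0, 0, 0, 0, 0, 0, 0, 0, 0, 0, 0, 0, 1], [0, 0, 0, 0, 0, 0,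 0, 0, 0, 0, 0, 0, 0, 0, 0, 0, 0, 0, 0, 0, 0, 0, 0, 0, -1, 0, 1]]]

def bbL : List (List (List ℤ)) := [[[], [0, 0, 1, 0, 1, 1, 1, 1, 1, 1, 0, 1], [], [], []], [[1], [-1, 0, 1, 0, 1, 1, 1], [0, 0, 0, 0, 0, 0, 0, 1, 1, 1], [0, 0, 0, 0, 0, 0, 0, 0, 0, 0, 0, 1], []], [[], [1, 0, 1, 1, 0, 1], [-1, 0, 0, -1, 1, 0, 0, 1], [0, 0, 0, 0, 0, 0, 1, 0, 1, 1, 0, 1], []], [[], [1], [0, 0, 1, 1, 1], [-1, 0, 0, -1, 0, 1, 1, 1, 1, 1], [0, 0, 0, 0, 0, 0, 0, 0, 0, 0, 0, 1]], [[], [], [], [1, 0, 1, 1, 1, 1, 1, 1, 0, 1], [-1, 0, 0, -1, 0, 0, 0, 0, 1, 0, 0, 1]]]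

def kL : List (List ℤ) := [[1], [0, 0, 1, 0, 1, 1, 1, 1, 1, 1, 0, 1], [0, 0, 0, 0, 0, 0, 0, 0, 0, 1, 1, 1, 0, 1, 1, 1], [0, 0, 0, 0, 0, 0, 0, 0, 0, 0, 0, 0, 0, 1, 0, 1, 1, 1, 1, 1, 1, 0, 1], [0, 0, 0, 0, 0, 0, 0, 0, 0, 0, 0, 0, 0, 0, 0, 0, 0, 0, 0, 0, 0, 0, 0, 0, 1]]

/-- the data -/
def data : Data A 3 24 5 where
  t := tab
  e := e
  wl := enc.wl
  mat c c' := (matL.getD c []).getD c' []
  kk c := kL.getD c []
  ff := [1, 0, 1, 1, 1, 1, 1, 1, 0, 1]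
  bb c c' := (bbL.getD c []).getD c' []
  chkM := by decide +kernel
  chkK := by decide +kernel
  chkF := by decide +kernel
  chkP := by decide +kernel
  chkB := by decide +kernel
  wo := by decide +kernel
  ws := by decide +kernel

/-- `1*q^2*P4*P8*P10*P12 / 1` (`Pn` the cyclotomic polynomials) -/
def c1 : Crt 5 where
  th := [-1, 0, 0, 0, 1, 1, 1, 1, 1]
  nu c := ([[0, 0, 0, 0, 0, 0, 0, 0, 0, 1, 0, 0, 0, 1], [0, 0, 0, 0, 0, 0, 0, -1, 0, 1, 1], [0, 0, 0, 0, -1, 0, 0, 0, 0, 1], [0, 0, 0, -1, -1, 0, 1], [-1, 0, 0, 0, -1]] : List (List ℤ)).getD c []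
  steps := [(3, [(0, [1, 0, 1, 1, 1, -1, -1]), (1, [-1, 0, -1, -1, -1, -1, -1, -1, 0, -1]), (2, [0, 0, 0, 0, -1, -1, -1, 0, -1, -1, -1])]), (2, [(0, [-1]), (2, [0, 0, 1, 0, 0, 0, 1])]), (4, [(4, [1])]), (1, [(0, [1])])]
  dn := [0, 0, 1, -1, 1, -1, 2, -1, 2, -2, 2, -1, 2, -1, 1, -1, 1]
  den := 1

theorem ok1 : c1.ok (data.t.cls data.t.o) data.bb data.kk := by decide +kernel

theorem dvd1 : pDvd c1.den c1.dn := by decide +kernel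

/-- `1*q^3*P4^2*P10*P12*P18 / 2` (`Pn` the cyclotomic polynomials) -/
def c2 : Crt 5 where
  th := [-1, 0, 0, -1, -1, 0, 0, -1]
  nu c := ([[0, 0, 0, 0, 0, 0, 0, 0, 0, 0, 0, 0, 1, 0, 1], [0, 0, 0, 0, 0, 0, 0, 0, 0, 0, -1], [0, 0, 0, 0, 0, 0, 1, 0, 1], [0, 0, 0, 0, -1], [1, 0, 1]] : List (List ℤ)).getD c []
  steps := [(3, [(0, [-2, -1, -3, 0, -1, -1]), (1, [2, 0, 2, 2, 2, 2, 2, 2, 0, 2]), (2, [0, 0, 0, -1, -1, -2, -1, -2, -1, -2, -1, -1])]), (2, [(0, [-1]), (2, [0, 0, 1, 0, 0, 0, 1])]), (4, [(4, [1])]), (1, [(0, [1])])]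
  dn := [0, 0, 0, 1, -1, 2, -3, 3, -3, 5, -4, 5, -6, 5, -4, 5, -3, 3, -3, 2, -1, 1]
  den := 2

theorem ok2 : c2.ok (data.t.cls data.t.o) data.bb data.kk := by decide +kernel

theorem dvd2 : pDvd c2.den c2.dn := by decide +kernel

/-- `1*q^3*P3^2*P8*P10*P18 / 2` (`Pn` the cyclotomic polynomials) -/
def c3 : Crt 5 where
  th := [-1, 0, 0, -1, 1, 0, 0, 1]
  nu c := ([[0, 0, 0, 0, 0, 0, 0, 0, 0, 0, 0, 0, 1, 1, 1, 0, 1, 1, 1], [0, 0, 0, 0, 0, 0, 0, 0, 0, 0, -1, -1, 0, 1, 1], [0, 0, 0, 0, 0, 0, 1, -1, -1, 0, -1, -1, 1], [0, 0, 0, 0, 1, 1, 0, -1, -1], [1, 1, 1, 0, 1, 1, 1]] : List (List ℤ)).getD c []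
  steps := [(4, [(0, [1]), (2, [0, 0, -1, 0, 0, 0, -1]), (4, [0, 0, 0, 0, 0, 0, 0, 0, 1])]), (2, [(0, [-1, -1, 0, 0, -1, 1]), (1, [1, 0, 1, 1, 1, 1, 1, 1, 0, 1]), (2, [0, 0, 0, 0, 0, -1, 0, 0, 0, -1])]), (3, [(0, [-1]), (2, [0, 0, 1, 0, 0, 0, 1])]), (1, [(0, [1])])]
  dn := [0, 0, 0, 1, 1, 2, -1, 1, -1, 5, 0, 3, -4, 3, 0, 5, -1, 1, -1, 2, 1, 1]
  den := 2

theorem ok3 : c3.ok (data.t.cls data.t.o) data.bb data.kk := by decide +kernel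

theorem dvd3 : pDvd c3.den c3.dn := by decide +kernel

/-- `1*q^6*P4^2*P8*P12*P18 / 1` (`Pn` the cyclotomic polynomials) -/
def c4 : Crt 5 where
  th := [-1, 0, 0, -1]
  nu c := ([[0, 0, 0, 0, 0, 0, 0, 0, 0, 0, 0, 0, 0, 0, 0, 1, 0, 1, 0, 1, 0, 1], [0, 0, 0, 0, 0, 0, 0, 0, 0, 0, 0, 0, 0, -1], [0, 0, 0, 0, 0, 0, 0, 0, 0, 1, -1, 1, -1], [0, 0, 0, 0, 0, 0, 0, 0, 1], [-1, 0, -1, 0, -1, 0, -1]] : List (List ℤ)).getD c []
  steps := [(3, [(0, [1, 1, 1, 1, 1]), (2, [0, 0, -1, -1, -2, -1, -2, -1, -2, -1, -1]), (3, [0, 0, 0, 0, 1, 0, 1, 1, 1, 1, 1, 1, 0, 1]), (4, [0, 0, 0, 0, 0, 0, 0, -1, 0, -1, 0, -1, 0, -1])]), (2, [(0, [-1]), (2, [0, 0, 1, 0, 0, 0, 1])]), (4, [(4, [1])]), (1, [(0, [1])])]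
  dn := [0, 0, 0, 0, 0, 0, 1, 0, 1, -1, 1, -1, 3, -1, 2, -2, 2, -1, 3, -1, 1, -1, 1, 0, 1]
  den := 1

theorem ok4 : c4.ok (data.t.cls data.t.o) data.bb data.kk := by decide +kernel

theorem dvd4 : pDvd c4.den c4.dn := by decide +kernel

end Cfsg.Agent.H996.Eight.TabTwEb
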