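import Cfsg.Agent.H996.Eight.Rows
import Cfsg.Agent.H996.Eight.TabTwEa
import Cfsg.Agent.H996.Eight.TabTwEb
import Cfsg.Agent.H35.ExcIdxTw

/-!
# At least eight character degrees: `²E₆(q)` (helper996, for S4899)
-/

set_option autoImplicit false

namespace Cfsg.Agent.H996.Eight.Rows

open Cfsg Cfsg.Agent.H967.Sph Cfsg.Agent.H64.Dl.Sph Cfsg.Agent.H996.Eight.Cert Cfsg.Agent.H996.Eight.Interval
open CoxeterSystem Cfsg.Agent.ChevalleyStructure.CoxeterGeom Cfsg.Agent.Tits.Roots Cfsg.Agent.Tits.Core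
  Cfsg.Agent.Nodes.Reps Cfsg.Agent.Nodes.BNOf Cfsg.Agent.Nodes.Bruhat Cfsg.Agent.Nodes.LeviDec
open Cfsg.Lie Cfsg.Agent.H35.ExcIdx Cfsg.Agent.Nodes

universe u

theorem hA_TwEa : Nodes.RGDTwE6.A = TabTwEa.A := by
  funext i k
  revert i k
  decide +kernel

theorem hA_TwEb : Nodes.RGDTwE6.A = TabTwEb.A := by
  funext i k
  revert i k
  decide +kernel

theorem exists_prime_pow' (F : Type u) [Field F] [Fintype F] :
    ∃ (r f : ℕ), r.Prime ∧ f ≠ 0 ∧ Fintype.card F = r ^ f ∧ CharP F r := by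
  obtain ⟨r, hr⟩ := CharP.exists F
  obtain ⟨f, hp, hf⟩ := FiniteField.card F r
  exact ⟨r, f, hp, f.ne_zero, hf, hr⟩

/-- **`²E₆(q)` has at least eight character degrees.** -/
theorem eight_TwE6' {K : Type u} [Field K] [Fintype K] {x : ℕ} (hq : IsPrimePow x) (hK : Fintype.card K = x ^ 2) :
    8 ≤ (charDegrees ↥(twistedE6 K x)).ncard := by
  obtain ⟨r, f, hr, hf, hqf⟩ := (isPrimePow_nat_iff x).1 hq
  have hch : CharP K r := by
    obtain ⟨r', g, hr', hg, hK', hch⟩ := exists_prime_pow' K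
    have h1 : r' = r := by
      have h2 : r' ∣ r ^ (f * 2) := by
        rw [pow_mul, hqf, ← hK, hK']
        exact dvd_pow_self _ hg
      exact (Nat.prime_dvd_prime_iff_eq hr' hr).1 (hr'.dvd_of_dvd_pow h2)
    rwa [h1] at hch
  have : Fact r.Prime := ⟨hr⟩
  obtain ⟨φ, hφ, hqq⟩ := Cfsg.Agent.ChevalleyStructure.TwE6Basic.exists_frob hq hK
  have : Finite ↥(twistedE6 K x) := by
    have : Finite (GL chevE6.Idx K) := by
      have : Finite (Matrix chevE6.Idx chevE6.Idx K) := inferInstance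
      infer_instance
    infer_instance
  have D := data_TwE6_2 hr hf.ne' hqf.symm hφ hqq hK
  have := D.fin
  have h2 : 2 ≤ x := hq.two_le
  have hsz : ∀ i, Nat.card (Nodes.RGDTwE6.X φ x (sr i)) = x ^ TabTwEa.data.e i := by
    intro i
    rw [D.size i]
    fin_cases i
    · exact (pow_one x).symm
    · exact (pow_one x).symm
    · rfl
    · rfl
  have hsz' : ∀ i, Nat.card (Nodes.RGDTwE6.X φ x (sr i)) = x ^ TabTwEb.data.e i := hsz
  have m1 := exists_deg' D.rgd D.gg hA_TwEa TabTwEa.data h2 hsz TabTwEa.c1 TabTwEa.ok1 TabTwEa.dvd1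
  have m2 := exists_deg' D.rgd D.gg hA_TwEa TabTwEa.data h2 hsz TabTwEa.c2 TabTwEa.ok2 TabTwEa.dvd2
  have m3 := exists_deg' D.rgd D.gg hA_TwEb TabTwEb.data h2 hsz' TabTwEb.c2 TabTwEb.ok2 TabTwEb.dvd2
  have m4 := exists_deg' D.rgd D.gg hA_TwEa TabTwEa.data h2 hsz TabTwEa.c3 TabTwEa.ok3 TabTwEa.dvd3
  have m5 := exists_deg' D.rgd D.gg hA_TwEa TabTwEa.data h2 hsz TabTwEa.c4 TabTwEa.ok4 TabTwEa.dvd4
  have m6 := exists_deg' D.rgd D.gg hA_TwEb TabTwEb.data h2 hsz' TabTwEb.c4 TabTwEb.ok4 TabTwEb.dvd4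
  have mS : x ^ 36 ∈ charDegrees ↥(twistedE6 K x) := by
    have h3 := Cfsg.Agent.S1066.result hq hK
    have hd : ¬ r ∣ Nat.gcd 3 (x + 1) := by
      intro h4
      have h5 : r ∣ x + 1 := h4.trans (Nat.gcd_dvd_right _ _)
      have h6 : r ∣ x := by rw [← hqf]; exact dvd_pow_self _ hf.ne'
      have h7 : r ∣ 1 := by
        have := Nat.dvd_sub h5 h6
        rwa [Nat.add_sub_cancel_left] at this
      exact hr.one_lt.ne' (Nat.dvd_one.1 h7)
    have hx : x ^ 36 = r ^ (f * 36) := by rw [← hqf, ← pow_mul]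
    rw [hx]
    refine st_mem ⟨_, _, _, _, _, _, _, D.fin, D.rgd, D.g1⟩ hd (P := PT x) ?_ ?_
    · intro h4
      have h5 : r ∣ PT x * H35.PoinNum.pr x [5, 9] := Dvd.dvd.mul_right h4 _
      rw [PT_mul (by omega), ← hqf] at h5
      exact not_dvd_pr hr hf.ne' _ (by simp) h5
    · rw [h3, ← hx]
      unfold PT
      ring
  have i1 := isVal TabTwEa.ok1 TabTwEa.dvd1 h2
  have i2 := isVal TabTwEa.ok2 TabTwEa.dvd2 h2
  have i3 := isVal TabTwEb.ok2 TabTwEb.dvd2 h2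
  have i4 := isVal TabTwEa.ok3 TabTwEa.dvd3 h2
  have i5 := isVal TabTwEa.ok4 TabTwEa.dvd4 h2
  have i6 := isVal TabTwEb.ok4 TabTwEb.dvd4 h2
  have iS := Is.xpow x 36
  have l1 := lt_of_ltP h2 (Is.one x) i1 (by decide +kernel)
  have l2 := lt_of_ltP h2 i1 i2 (by decide +kernel)
  have l3 := lt_of_ltP h2 i2 i3 (by decide +kernel)
  have l4 := lt_of_ltP h2 i3 i4 (by decide +kernel)
  have l5 := lt_of_ltP h2 i4 i5 (by decide +kernel)
  have l6 := lt_of_ltP h2 i5 i6 (by decide +kernel)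
  have l7 := lt_of_ltP h2 i6 iS (by decide +kernel)
  generalize val TabTwEa.c1.den TabTwEa.c1.dn x = a1 at *
  generalize val TabTwEa.c2.den TabTwEa.c2.dn x = a2 at *
  generalize val TabTwEb.c2.den TabTwEb.c2.dn x = a3 at *
  generalize val TabTwEa.c3.den TabTwEa.c3.dn x = a4 at *
  generalize val TabTwEa.c4.den TabTwEa.c4.dn x = a5 at *
  generalize val TabTwEb.c4.den TabTwEb.c4.dn x = a6 at *
  generalize x ^ 36 = aS at *
  refine length_le [1, a1, a2, a3, a4, a5, a6, aS] ?_ ?_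
  · simp only [List.mem_cons, List.not_mem_nil, or_false]
    rintro y (rfl | rfl | rfl | rfl | rfl | rfl | rfl | rfl)
    exacts [one_mem, m1, m2, m3, m4, m5, m6, mS]
  · simp only [List.pairwise_cons, List.mem_cons, List.not_mem_nil, or_false, forall_eq_or_imp, forall_eq,
      false_imp_iff, implies_true, List.Pairwise.nil, and_true]
    omega

theorem eight_TwE6 {S : Type*} [Group S] (h : Lie.Iso2E6 S) : 8 ≤ (charDegrees S).ncard := by
  obtain ⟨K, _, _, x, hq, hK, ⟨e⟩⟩ := h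
  rw [ncard_congr e]
  exact eight_TwE6' hq hK

end Cfsg.Agent.H996.Eight.Rows
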