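import Mathlib
import Cfsg.Agent.S0168
import Cfsg.Agent.Characters.Core
import Cfsg.Agent.Characters.Values
import Cfsg.Agent.Blocks.Basic
import Cfsg.Prelude.Def_DegreeGraph
import Cfsg.Agent.H464.PermIrr

/-!
# The interval lemma for character degrees (helper996, for S4899)

If `G` has a faithful complex representation of dimension at most `a`, then for every `1 ≤ X` below some character degree
there is a character degree `e` with `X < e ≤ a * X`. Consequences: `exists_finset` (`e` different degrees in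
`(X, a ^ e * X]` when `a ^ e * X` is below some degree), versions for a nontrivial irreducible character of a simple
group (`Small.of_irr`) and for a faithful permutation representation (`Small.of_perm`, `a = |Ω| - 1`).
-/

set_option autoImplicit false
set_option linter.style.haveILetI false

namespace Cfsg.Agent.H996.Eight.Interval

open Cfsg Cfsg.Agent.Characters.Core Module Cfsg.Agent.Blocks.Basic

theorem finite_cds {G : Type*} [Group G] [Finite G] : (charDegrees G).Finite := by
  haveI : Finite (IrrCharacter G) := finite_irr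
  exact (Set.finite_range (fun χ : IrrCharacter G => charDegree (χ : G → ℂ))).subset (by
    rintro d ⟨χ, rfl⟩; exact ⟨χ, rfl⟩)

/-- `G` has a faithful representation of dimension at most `a` -/
def Small (G : Type*) [Group G] (a : ℕ) : Prop :=
  ∃ (n : ℕ) (ρ : Representation ℂ G (Fin n → ℂ)), Function.Injective ρ ∧ n ≤ a

/-- A constituent has at most the degree. -/
theorem charDegree_le {G : Type*} [Group G] [Fintype G] {χ ψ : G → ℂ} {n : ℕ} (hχ : IsCharacter G χ)
    (h1 : χ 1 = n) (hψ : IsIrrCharacter G ψ) (h : classInner χ ψ ≠ 0) : charDegree ψ ≤ n := by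
  classical
  haveI : Finite (IrrCharacter G) := finite_irr
  haveI := Fintype.ofFinite (IrrCharacter G)
  obtain ⟨m, hm⟩ := exists_nat_comb hχ
  have h2 : classInner χ ψ = m ⟨ψ, hψ⟩ := by
    conv_lhs => rw [hm]
    exact classInner_sum_nsmul_irr m ⟨ψ, hψ⟩
  have h3 : 1 ≤ m ⟨ψ, hψ⟩ := by
    rcases Nat.eq_zero_or_pos (m ⟨ψ, hψ⟩) with h0 | h0
    · rw [h2, h0] at h; exact absurd Nat.cast_zero h
    · exact h0
  have h4 : (n : ℂ) = ((∑ φ : IrrCharacter G, m φ * charDegree (φ : G → ℂ) : ℕ) : ℂ) := by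
    rw [← h1, hm, Finset.sum_apply]
    push_cast
    refine Finset.sum_congr rfl fun φ _ => ?_
    rw [Pi.smul_apply, irr_one_eq_charDegree φ.2, nsmul_eq_mul]
  have h5 : n = ∑ φ : IrrCharacter G, m φ * charDegree (φ : G → ℂ) := by exact_mod_cast h4
  rw [h5]
  calc charDegree ψ = 1 * charDegree ψ := (one_mul _).symm
    _ ≤ m ⟨ψ, hψ⟩ * charDegree ψ := Nat.mul_le_mul_right _ h3
    _ ≤ _ := Finset.single_le_sum (f := fun φ : IrrCharacter G => m φ * charDegree (φ : G → ℂ))
        (fun _ _ => Nat.zero_le _) (Finset.mem_univ (⟨ψ, hψ⟩ : IrrCharacter G))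

/-- **The interval lemma.** -/
theorem exists_between {G : Type*} [Group G] [Finite G] {a : ℕ} (hs : Small G a) {X D : ℕ} (hX : 1 ≤ X)
    (hD : D ∈ charDegrees G) (hXD : X < D) : ∃ e ∈ charDegrees G, X < e ∧ e ≤ a * X := by
  classical
  haveI := Fintype.ofFinite G
  haveI : Finite (IrrCharacter G) := finite_irr
  haveI := Fintype.ofFinite (IrrCharacter G)
  by_contra hno
  push Not at hno
  obtain ⟨d, ρ, hf, hda⟩ := hs
  have hβ : IsCharacter G ρ.character := isCharacter_of_rep ρ
  have hβ1 : ρ.character 1 = (d : ℂ) := by rw [Representation.char_one, Module.finrank_fin_fun]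
  have hpow : ∀ n : ℕ, IsCharacter G (fun g => ρ.character g ^ n) := by
    intro n
    induction n with
    | zero =>
      have : (fun g : G => ρ.character g ^ 0) = 1 := by funext g; simp
      rw [this]; exact isCharacter_one
    | succ n ih =>
      have : (fun g : G => ρ.character g ^ (n + 1)) = (fun g => ρ.character g ^ n) * ρ.character := by
        funext g; simp [pow_succ]
      rw [this]; exact isCharacter_mul ih hβ
  have key : ∀ n : ℕ, ∀ ψ : G → ℂ, IsIrrCharacter G ψ →
      classInner (fun g => ρ.character g ^ n) ψ ≠ 0 → charDegree ψ ≤ X := by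
    intro n
    induction n with
    | zero =>
      intro ψ hψ h
      have h1 : (fun g : G => ρ.character g ^ 0) = 1 := by funext g; simp
      rw [h1] at h
      by_cases he : (1 : G → ℂ) = ψ
      · rw [← he, charDegree_of_eq (n := 1) (by simp)]; exact hX
      · exact absurd (classInner_irr_ne isIrr_one hψ he) h
    | succ n ih =>
      intro ψ hψ h
      obtain ⟨m, hm⟩ := exists_nat_comb (hpow n)
      have h1 : (fun g : G => ρ.character g ^ (n + 1))
          = ∑ φ : IrrCharacter G, (m φ : ℂ) • ((φ : G → ℂ) * ρ.character) := by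
        funext g
        have h2 := congrFun hm g
        rw [Finset.sum_apply] at h2
        rw [Finset.sum_apply, pow_succ, h2, Finset.sum_mul]
        refine Finset.sum_congr rfl fun φ _ => ?_
        simp [mul_assoc]
      rw [h1, classInner_sum_left] at h
      obtain ⟨φ, -, hφ⟩ := Finset.exists_ne_zero_of_sum_ne_zero h
      rw [classInner_smul_left] at hφ
      have hmφ : m φ ≠ 0 := fun h0 => hφ (by rw [h0]; simp)
      have hφψ : classInner ((φ : G → ℂ) * ρ.character) ψ ≠ 0 := right_ne_zero_of_mul hφ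
      have hle : charDegree (φ : G → ℂ) ≤ X := by
        refine ih φ φ.2 ?_
        have h2 : classInner (fun g => ρ.character g ^ n) (φ : G → ℂ) = m φ := by
          conv_lhs => rw [hm]
          exact classInner_sum_nsmul_irr m φ
        rw [h2]
        exact_mod_cast hmφ
      have hle2 : charDegree ψ ≤ charDegree (φ : G → ℂ) * d := by
        refine charDegree_le (isCharacter_mul (isIrr_isCharacter φ.2) hβ) ?_ hψ hφψ
        rw [Pi.mul_apply, irr_one_eq_charDegree φ.2, hβ1]
        push_cast; rfl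
      by_contra hcon
      have h3 : a * X < charDegree ψ := hno _ ⟨⟨ψ, hψ⟩, rfl⟩ (not_le.1 hcon)
      have h4 : charDegree (φ : G → ℂ) * d ≤ X * a := Nat.mul_le_mul hle hda
      rw [mul_comm] at h3
      exact absurd (hle2.trans h4) (not_le.2 h3)
  obtain ⟨χ, rfl⟩ := hD
  obtain ⟨i, -, hi⟩ := Cfsg.Agent.S0168.result ρ hf (χ : G → ℂ) χ.2
  exact absurd (key i χ χ.2 hi) (not_le.2 hXD)

/-- `e` different degrees in `(X, a ^ e * X]` if `a ^ e * X` is below some degree. -/
theorem exists_finset {G : Type*} [Group G] [Finite G] {a : ℕ} (hs : Small G a) (ha : 1 ≤ a) {X D : ℕ} (hX : 1 ≤ X)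
    (hD : D ∈ charDegrees G) (e : ℕ) (h : a ^ e * X < D) :
    ∃ s : Finset ℕ, s.card = e ∧ ∀ x ∈ s, x ∈ charDegrees G ∧ X < x ∧ x ≤ a ^ e * X := by
  classical
  induction e with
  | zero => exact ⟨∅, rfl, by simp⟩
  | succ e ih =>
    have h1 : a ^ e * X < D := by
      refine lt_of_le_of_lt ?_ h
      exact Nat.mul_le_mul_right _ (Nat.pow_le_pow_right ha (Nat.le_succ e))
    obtain ⟨s, hs1, hs2⟩ := ih h1
    obtain ⟨y, hy, hy1, hy2⟩ := exists_between hs (X := a ^ e * X)
      (Nat.one_le_iff_ne_zero.2 (Nat.mul_ne_zero (pow_ne_zero _ (by omega)) (by omega))) hD h1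
    have hy3 : y ≤ a ^ (e + 1) * X := by
      rw [pow_succ, mul_comm (a ^ e) a, mul_assoc]; exact hy2
    refine ⟨insert y s, ?_, ?_⟩
    · rw [Finset.card_insert_of_notMem, hs1]
      intro hmem
      exact absurd (hs2 y hmem).2.2 (not_le.2 hy1)
    · intro x hx
      rcases Finset.mem_insert.1 hx with rfl | hx
      · refine ⟨hy, lt_of_le_of_lt ?_ hy1, hy3⟩
        exact Nat.le_mul_of_pos_left _ (Nat.pow_pos ha)
      · obtain ⟨h2, h3, h4⟩ := hs2 x hx
        exact ⟨h2, h3, h4.trans (Nat.mul_le_mul_right _ (Nat.pow_le_pow_right ha (Nat.le_succ e)))⟩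

/-- A set of known degrees and `e` further ones give a lower bound for the number of degrees. -/
theorem card_le {G : Type*} [Group G] [Finite G] (s : Finset ℕ) (h : ∀ x ∈ s, x ∈ charDegrees G) :
    s.card ≤ (charDegrees G).ncard := by
  rw [← Set.ncard_coe_finset]
  exact Set.ncard_le_ncard (fun x hx => h x (Finset.mem_coe.1 hx)) finite_cds

/-- A nontrivial irreducible character of a simple group. -/
theorem Small.of_irr {G : Type*} [Group G] [Finite G] [IsSimpleGroup G] {χ : G → ℂ} (hχ : IsIrrCharacter G χ)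
    (h1 : χ ≠ 1) {a : ℕ} (ha : charDegree χ ≤ a) : Small G a := by
  classical
  haveI := Fintype.ofFinite G
  obtain ⟨n, ρ, hρ, rfl⟩ := hχ
  have hn : charDegree ρ.character = n := by
    refine charDegree_of_eq ?_
    rw [Representation.char_one, Module.finrank_fin_fun]
  refine ⟨n, ρ, ?_, hn ▸ ha⟩
  have hk : (MonoidHom.ker ρ) = ⊥ ∨ (MonoidHom.ker ρ) = ⊤ := by
    haveI : (MonoidHom.ker ρ).Normal := inferInstance
    exact this.eq_bot_or_eq_top
  rcases hk with hk | hk
  · exact (MonoidHom.ker_eq_bot_iff ρ).1 hk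
  · exfalso
    have h2 : ρ.character = fun _ => (n : ℂ) := by
      funext g
      have h3 : ρ g = 1 := by
        have : g ∈ MonoidHom.ker ρ := hk ▸ Subgroup.mem_top g
        exact this
      rw [Representation.character, h3, ← map_one ρ]
      rw [show (LinearMap.trace ℂ (Fin n → ℂ)) (ρ 1) = ρ.character 1 from rfl, Representation.char_one,
        Module.finrank_fin_fun]
    have h4 : classInner ρ.character (1 : G → ℂ) = 0 := classInner_irr_ne (isIrrCharacter_of_rep ρ hρ) isIrr_one h1
    have h5 : classInner ρ.character (1 : G → ℂ) = n := by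
      rw [h2, Characters.Core.classInner_def]
      simp only [Pi.one_apply, map_one, mul_one, Finset.sum_const, Finset.card_univ, nsmul_eq_mul]
      rw [← Nat.card_eq_fintype_card, ← mul_assoc, inv_mul_cancel₀ card_ne_zero_complex, one_mul]
    have h6 : (n : ℂ) = 0 := h5.symm.trans h4
    have h7 : ρ.character 1 = 0 := by rw [h2]; exact h6
    exact irr_one_ne_zero (isIrrCharacter_of_rep ρ hρ) h7

theorem Small.mono {G : Type*} [Group G] {a b : ℕ} (h : Small G a) (hab : a ≤ b) : Small G b := by
  obtain ⟨n, ρ, h1, h2⟩ := h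
  exact ⟨n, ρ, h1, h2.trans hab⟩

theorem Small.of_mem {G : Type*} [Group G] [Finite G] [IsSimpleGroup G] {d : ℕ} (hd : d ∈ charDegrees G) (h1 : 1 < d) :
    Small G d := by
  obtain ⟨χ, rfl⟩ := hd
  refine Small.of_irr χ.2 ?_ le_rfl
  intro h
  rw [h, charDegree_of_eq (n := 1) (by simp)] at h1
  omega

/-- A faithful character. -/
theorem Small.of_character {G : Type*} [Group G] {χ : G → ℂ} (hχ : IsCharacter G χ) {a : ℕ} (ha : χ 1 = a)
    (hf : ∀ g, χ g = χ 1 → g = 1) : Small G a := by
  obtain ⟨n, ρ, rfl⟩ := hχ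
  have hn : n = a := by
    rw [Representation.char_one, Module.finrank_fin_fun] at ha
    exact_mod_cast ha
  refine ⟨n, ρ, ?_, hn.le⟩
  refine (injective_iff_map_eq_one ρ).2 fun g hg => hf g ?_
  change (LinearMap.trace ℂ (Fin n → ℂ)) (ρ g) = (LinearMap.trace ℂ (Fin n → ℂ)) (ρ 1)
  rw [hg, map_one ρ]

open Cfsg.Agent.H464.PermIrr MulAction in
theorem isCharacter_pc_sub_one {G X : Type*} [Group G] [Finite G] [MulAction G X] [Finite X] [Nonempty X] :
    IsCharacter G (fun g => (Nat.card (fixedBy X g) : ℂ) - 1) := by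
  classical
  haveI := Fintype.ofFinite G
  haveI : Finite (IrrCharacter G) := finite_irr
  haveI := Fintype.ofFinite (IrrCharacter G)
  obtain ⟨m, hm⟩ := exists_nat_comb (isCharacter_pc (G := G) X)
  have h1 : classInner (pc G X) (1 : G → ℂ) = m ⟨1, isIrr_one⟩ := by
    conv_lhs => rw [hm]
    exact classInner_sum_nsmul_irr m ⟨1, isIrr_one⟩
  have h2 : m ⟨1, isIrr_one⟩ ≠ 0 := by
    intro h0
    rw [h0, Characters.Core.classInner_def] at h1
    have h3 : ∑ g : G, pc G X g * (starRingEnd ℂ) ((1 : G → ℂ) g) = ((∑ g : G, Nat.card (fixedBy X g) : ℕ) : ℂ) := by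
      push_cast
      refine Finset.sum_congr rfl fun g _ => ?_
      rw [Pi.one_apply, map_one, mul_one]; rfl
    rw [h3] at h1
    have h4 : ((∑ g : G, Nat.card (fixedBy X g) : ℕ) : ℂ) = 0 := by
      rcases mul_eq_zero.1 (h1.trans Nat.cast_zero) with h | h
      · exact absurd h (inv_ne_zero card_ne_zero_complex)
      · exact h
    have h5 : ∑ g : G, Nat.card (fixedBy X g) = 0 := by exact_mod_cast h4
    have h6 := (Finset.sum_eq_zero_iff.1 h5) 1 (Finset.mem_univ _)
    haveI : Nonempty (fixedBy X (1 : G)) := ⟨⟨Classical.arbitrary X, one_smul G _⟩⟩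
    exact absurd h6 (Nat.card_pos.ne')
  have h3 : (fun g => (Nat.card (fixedBy X g) : ℂ) - 1)
      = ∑ ψ : IrrCharacter G, (m ψ - if ψ = ⟨1, isIrr_one⟩ then 1 else 0) • (ψ : G → ℂ) := by
    have h4 : ∀ ψ : IrrCharacter G, (m ψ - if ψ = ⟨1, isIrr_one⟩ then 1 else 0) • (ψ : G → ℂ)
        = m ψ • (ψ : G → ℂ) - if ψ = ⟨1, isIrr_one⟩ then (1 : G → ℂ) else 0 := by
      intro ψ
      split_ifs with h
      · subst h
        obtain ⟨k, hk⟩ := Nat.exists_eq_succ_of_ne_zero h2
        rw [hk, Nat.succ_sub_one, Nat.succ_eq_add_one, add_smul, one_smul, add_sub_cancel_right]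
      · simp
    rw [Finset.sum_congr rfl fun ψ _ => h4 ψ, Finset.sum_sub_distrib, ← hm, Finset.sum_ite_eq' Finset.univ]
    funext g
    simp [pc]
  rw [h3]
  exact isCharacter_sum _ fun ψ _ => isCharacter_nsmul _ (isIrr_isCharacter ψ.2)

open MulAction in
/-- A faithful action on `n + 1` points. -/
theorem Small.of_perm {G X : Type*} [Group G] [Finite G] [MulAction G X] [Finite X] [FaithfulSMul G X] {n : ℕ}
    (h : Nat.card X = n + 1) : Small G n := by
  haveI : Nonempty X := (Nat.card_pos_iff.1 (by omega : 0 < Nat.card X)).1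
  have h1 : Nat.card (fixedBy X (1 : G)) = n + 1 := by
    rw [← h]
    exact Nat.card_congr ⟨fun x => x.1, fun x => ⟨x, one_smul G x⟩, fun _ => rfl, fun _ => rfl⟩
  refine Small.of_character (isCharacter_pc_sub_one (G := G) (X := X)) (by rw [h1]; push_cast; ring) fun g hg => ?_
  have h2 : Nat.card (fixedBy X g) = Nat.card X := by
    rw [h1, ← h] at hg
    have := sub_left_injective hg
    exact_mod_cast this
  refine FaithfulSMul.eq_of_smul_eq_smul (α := X) fun x => ?_
  rw [one_smul]
  have h3 : fixedBy X g = Set.univ := by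
    refine Set.eq_of_subset_of_ncard_le (Set.subset_univ _) ?_ Set.finite_univ
    rw [Set.ncard_univ, ← h2]; exact le_rfl
  have h4 : x ∈ fixedBy X g := h3 ▸ Set.mem_univ x
  exact h4

/-- A simple group with a proper subgroup of index `n + 1`. -/
theorem Small.of_index {G : Type*} [Group G] [Finite G] [IsSimpleGroup G] (H : Subgroup G) (hH : H ≠ ⊤) {n : ℕ}
    (h : H.index = n + 1) : Small G n := by
  haveI : FaithfulSMul G (G ⧸ H) := by
    have h1 : H.normalCore = ⊥ := by
      rcases (inferInstance : H.normalCore.Normal).eq_bot_or_eq_top with h2 | h2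
      · exact h2
      · exact absurd (top_le_iff.1 (h2 ▸ H.normalCore_le)) hH
    refine ⟨fun {a b} hab => ?_⟩
    have h2 : a⁻¹ * b ∈ (MulAction.toPermHom G (G ⧸ H)).ker := by
      rw [MonoidHom.mem_ker]
      ext x
      rw [MulAction.toPermHom_apply, MulAction.toPerm_apply, mul_smul, ← hab x, inv_smul_smul]
      rfl
    rw [← Subgroup.normalCore_eq_ker, h1, Subgroup.mem_bot] at h2
    exact (inv_mul_eq_one.1 h2)
  exact Small.of_perm (X := G ⧸ H) h

/-- The counting form: known degrees `s` (all `≤ X` or `≥ D`), `e` more between `X` and `D`. -/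
theorem card_add_le {G : Type*} [Group G] [Finite G] {a : ℕ} (hs : Small G a) (ha : 1 ≤ a) {X D : ℕ} (hX : 1 ≤ X)
    (hD : D ∈ charDegrees G) (e : ℕ) (h : a ^ e * X < D) (s : Finset ℕ) (hsd : ∀ x ∈ s, x ∈ charDegrees G)
    (hgap : ∀ x ∈ s, x ≤ X ∨ a ^ e * X < x) :
    ∃ t : Finset ℕ, s ⊆ t ∧ (∀ x ∈ t, x ∈ charDegrees G) ∧ t.card = s.card + e ∧
      ∀ x ∈ t, x ∈ s ∨ (X < x ∧ x ≤ a ^ e * X) := by
  classical
  obtain ⟨u, hu1, hu2⟩ := exists_finset hs ha hX hD e h
  refine ⟨s ∪ u, Finset.subset_union_left, ?_, ?_, ?_⟩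
  · intro x hx
    rcases Finset.mem_union.1 hx with hx | hx
    · exact hsd x hx
    · exact (hu2 x hx).1
  · rw [Finset.card_union_of_disjoint, hu1]
    rw [Finset.disjoint_left]
    intro x hx hx'
    rcases hgap x hx with h1 | h1
    · exact absurd (hu2 x hx').2.1 (not_lt.2 h1)
    · exact absurd (hu2 x hx').2.2 (not_le.2 h1)
  · intro x hx
    rcases Finset.mem_union.1 hx with hx | hx
    · exact Or.inl hx
    · exact Or.inr (hu2 x hx).2

end Cfsg.Agent.H996.Eight.Interval
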