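import Cfsg.Agent.H996.Eight.Cert

/-!
# Encoded tables (helper996, for S4899)

The tables of the spherical machine with the digits of natural numbers as data (fast for the kernel).
-/

set_option autoImplicit false

namespace Cfsg.Agent.H996.Eight.En

open Cfsg.Agent.H967.Sph Cfsg.Agent.H64.Dl.Sph Cfsg.Agent.H996.Eight.Cert

/-- `k`-th digit of `b` bits -/
def dig (b V k : ℕ) : ℕ := Nat.land (Nat.shiftRight V (Nat.mul b k)) (Nat.sub (Nat.shiftLeft 1 b) 1)

/-- an encoded table -/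
structure Enc (l N m : ℕ) where
  j : Fin l
  V : ℕ
  S : ℕ
  C : ℕ
  P : ℕ
  Q : ℕ
  CP : ℕ
  CQ : ℕ
  R : ℕ
  W : ℕ

/-- the path of a state, from the parents and the letters -/
def pathOf (P Q stop : ℕ) {l : ℕ} [NeZero l] : ℕ → ℕ → List (Fin l) → List (Fin l)
  | 0, _, acc => acc
  | f + 1, s, acc =>
    if dig 10 P s = stop then acc else pathOf P Q stop f (dig 10 P s) (Fin.ofNat l (dig 4 Q s) :: acc)

/-- the path of a state, the origin is `0` -/
def pathO (P Q : ℕ) {l : ℕ} [NeZero l] : ℕ → ℕ → List (Fin l) → List (Fin l)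
  | 0, _, acc => acc
  | f + 1, s, acc => if s = 0 then acc else pathO P Q f (dig 10 P s) (Fin.ofNat l (dig 4 Q s) :: acc)

variable {l N m : ℕ} [NeZero l] [NeZero N] [NeZero m] (E : Enc l N m)

def Enc.vec (s : Fin N) (i : Fin l) : ℤ := Int.subNatNat (dig 4 E.V (Nat.add (Nat.mul l s) i)) 8

def Enc.st (i : Fin l) (s : Fin N) : Fin N := Fin.ofNat N (dig 10 E.S (Nat.add (Nat.mul l s) i))

def Enc.cls (s : Fin N) : Fin m := Fin.ofNat m (dig 5 E.C s)

def Enc.crep (c : Fin m) : Fin N := Fin.ofNat N (dig 10 E.R c)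

def Enc.path (s : Fin N) : List (Fin l) := pathO E.P E.Q 256 s []

def Enc.cpath (s : Fin N) : List (Fin l) := pathOf E.CP E.CQ 1023 256 s []

def Enc.wl (s : Fin N) : ℕ := dig 8 E.W s

/-- the code of the vector of a state -/
def Enc.code (s : Fin N) : ℕ := dig (4 * l) E.V s

/-- the code computed from the vector -/
def codeOf (v : Fin l → ℤ) : ℕ := (List.finRange l).foldr (fun i a => Nat.add (v i + 8).toNat (Nat.mul 16 a)) 0

/-- **The table.** -/
def Enc.tab (A : Fin l → Fin l → ℤ)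
    (h0 : E.vec 0 = Pi.single E.j 1)
    (h1 : (∀ a, E.code a = codeOf (E.vec a)) ∧ ∀ a b, E.code a = E.code b → a = b)
    (h2 : ∀ i a k, E.vec (E.st i a) k = E.vec a k - A i k * E.vec a i)
    (h3 : ∀ a, (E.path a).foldl (fun b i => E.st i b) 0 = a)
    (h4 : ∀ i, i ≠ E.j → ∀ a, E.cls (E.st i a) = E.cls a)
    (h5 : ∀ a, ∀ i ∈ E.cpath a, i ≠ E.j)
    (h6 : ∀ a, (E.cpath a).foldl (fun b i => E.st i b) (E.crep (E.cls a)) = a) : Tab A E.j N m where
  vec := E.vec
  st := E.st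
  cls := E.cls
  o := 0
  vec_o := h0
  vec_inj a b h := h1.2 a b (by rw [h1.1, h1.1, h])
  vec_st := h2
  path := E.path
  path_spec := h3
  cls_st := h4
  crep := E.crep
  cpath := E.cpath
  cpath_ne := h5
  cpath_spec := h6

end Cfsg.Agent.H996.Eight.En
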