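import Cfsg.Agent.H996.Eight.Enc

/-!
# The table of the spherical machine: `F₄`, node `1` (helper996, for S4899; made by a program)

96 states, 17 classes; 3 certificates.
-/

set_option autoImplicit false
set_option maxRecDepth 20000

namespace Cfsg.Agent.H996.Eight.TabF4b

open Cfsg.Agent.H967.Sph Cfsg.Agent.H64.Dl.Sph Cfsg.Agent.H996.Eight.Cert Cfsg.Agent.H996.Eight.En

/-- the Cartan matrix -/
def A (i k : Fin 4) : ℤ := (([[2, -1, 0, 0], [-1, 2, -2, 0], [0, -1, 2, -1], [0, 0, -1, 2]] : List (List ℤ)).getD i []).getD k 0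

/-- the encoded table -/
def enc : Enc 4 96 17 where
  j := 1
  V := 1284911226924107068670509969330452488758146095440432622153029639641308841162286297477801498730701600388580339368960154220774852414747158311580990869492107450287120008353992702973055027045283020453443097091370057970269307452070668185374355079355527692037684494025361099750175753901976168585886005990385325849835842278068580247291650615082752467650197842344061360955675926463444021440364170074224730079268922052952614731998744502099530125103982788551613940252641432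
  S := 837589678413498547759361986121697450834173025641364801961591840870520039298470932853899676011374553131204624785037800196292428260572066869251398175886605140561889836289886534955686688689319556538821250793588577802544543421809306121745110365485353090723350942343806885505742327461774528394194749361174514154680533160159154224554931371447456049529429488726652980240677224952140397138246787930859365638136874463362867392238759395003651640801536459751086023595202407731844380814210025970088464008699428921743583775217125891544437733861002121522742107299272100462951021457939028788072579910569934177940381688423706115951927365236775518572276223080414359159782497554838740484332057489866974325337986094810178183235814396217735232963678077814058906292291032320576691950406116586175803918548764645245766195122162326734524997391088283206687167542566256173158905031634103984550498180834049362448277621426759728232528935027025068851902018961136914351401056754327841979225072851396825218176427872433135411835904459725663308297839479984833637143738161782025234644830652451452275545966189403371251924023861289452497798051115494592561169325550895617674849948250224460800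
  C := 1608078041247473183223017610267657237485495875775679146050786666517192576297543765012819970575402493876055082265699839497791311591810949853512736
  P := 895445215418950761177530704141068720895938339286243434662397087932564328409227672147539467113322644247299325222819785994599477076919780864110620898887960586072113836282273822771699602845316832382068934038586353364528291427010571909382266263723534098073573672390950030224865452157129719808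
  Q := 2789692968919681461534834324421675591301093964464887505221178604453918581823970658278634588350446559150750846558224
  CP := 9736652946473329706396033679320081145040674372899105912855684037666415593080486585245140128641272397509338467950447024109516293076397931559621511517069274969968732514804563677827961248543608786141379305924057368631103246143229710586229903123876700676690635229839385863234910575170456387583
  CQ := 328984305419303874445824026569272137894600928358058325104003739371352542173032444532508497535441253167141306376192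
  R := 138965507663586271244303068440218567081635559244800
  W := 121742249538464976937327587935235833484209210103596599999731700337307981021307409182522609334144674724986620225070158191189822938524482513868817545395216871803773874560330125061370862077492609683875649666597678314346605397590278400

/-- the table -/
def tab : Tab A 1 96 17 :=
  enc.tab A (by decide +kernel) (by decide +kernel) (by decide +kernel) (by decide +kernel) (by decide +kernel)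
    (by decide +kernel) (by decide +kernel)

/-- the exponents of the parameters -/
def e (i : Fin 4) : ℕ := ([1, 1, 1, 1] : List ℕ).getD i 0

def matL : List (List (List ℤ)) := [[[], [0, 1], [], [], [], [], [], [], [], [], [], [], [], [], [], [], []], [[0, 1], [0, -1, 1, 1], [0, 0, 0, 1, 1], [0, 0, 0, 0, 1, 1], [], [], [], [], [], [], [], [], [], [], [], [], []], [[], [0, 0, 0, 1, 1], [0, 0, 0, -1, 0, 1], [0, 0, 0, 0, 0, 1, 1], [0, 0, 0, 0, 0, 0, 1], [], [], [0, 0, 0, 0, 0, 0, 0, 1], [], [], [], [], [], [], [], [], []], [[], [0, 0, 0, 0, 1, 1], [0, 0, 0, 0, 0, 1, 1], [0, 0, 0, 0, -1, -1, 2, 2], [], [0, 0, 0, 0, 0, 0, 0, 1, 1], [0, 0, 0, 0, 0, 0, 0, 1, 1], [], [0, 0, 0, 0, 0, 0, 0, 0, 1, 1], [], [], [], [], [], [], [], []], [[], [], [0, 0, 0, 0, 0, 0, 1], [], [0, 0, 0, 0, 0, 0, -1, 1], [], [], [0, 0, 0, 0, 0, 0, 0, 0, 1], [], [], [],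 [], [], [], [], [], []], [[], [], [], [0, 0, 0, 0, 0, 0, 0, 1, 1], [], [0, 0, 0, 0, 0, 0, 0, -1, 0, 1], [], [], [], [0, 0, 0, 0, 0, 0, 0, 0, 0, 0, 1], [], [], [], [], [], [], []], [[], [], [], [0, 0, 0, 0, 0, 0, 0, 1, 1], [], [], [0, 0, 0, 0, 0, 0, 0, -1, 0, 1, 1], [], [0, 0, 0, 0, 0, 0, 0, 0, 0, 1, 1], [], [], [0, 0, 0, 0, 0, 0, 0, 0, 0, 0, 0, 1], [], [], [], [], []], [[], [], [0, 0, 0, 0, 0, 0, 0, 1], [], [0, 0, 0, 0, 0, 0, 0, 0, 1], [], [], [0, 0, 0, 0, 0, 0, 0, -1, 0, 1], [0, 0, 0, 0, 0, 0, 0, 0, 0, 1, 1], [], [0, 0, 0, 0, 0, 0, 0, 0, 0, 0, 1, 1], [], [], [], [], [], []], [[], [], [], [0, 0, 0, 0, 0, 0, 0, 0, 1, 1], [], [], [0, 0, 0, 0, 0, 0, 0, 0, 0, 1, 1], [0, 0, 0, 0, 0, 0, 0, 0, 0, 1, 1], [0, 0, 0, 0, 0, 0, 0, 0, -1, -2, 1, 2], [0, 0, 0, 0, 0, 0, 0, 0, 0, 0, 0, 1, 1], [0, 0, 0, 0, 0, 0, 0, 0, 0, 0, 0, 1, 1], [], [0, 0, 0, 0, 0,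 0, 0, 0, 0, 0, 0, 0, 1, 1], [], [], [], []], [[], [], [], [], [], [0, 0, 0, 0, 0, 0, 0, 0, 0, 0, 1], [], [], [0, 0, 0, 0, 0, 0, 0, 0, 0, 0, 0, 1, 1], [0, 0, 0, 0, 0, 0, 0, 0, 0, 0, -1, 0, 1, 1], [], [], [0, 0, 0, 0, 0, 0, 0, 0, 0, 0, 0, 0, 0, 1, 1], [], [], [], []], [[], [], [], [], [], [], [], [0, 0, 0, 0, 0, 0, 0, 0, 0, 0, 1, 1], [0, 0, 0, 0, 0, 0, 0, 0, 0, 0, 0, 1, 1], [], [0, 0, 0, 0, 0, 0, 0, 0, 0, 0, -1, -1, 1, 1], [], [], [0, 0, 0, 0, 0, 0, 0, 0, 0, 0, 0, 0, 0, 1], [0, 0, 0, 0, 0, 0, 0, 0, 0, 0, 0, 0, 0, 0, 1], [], []], [[], [], [], [], [], [], [0, 0, 0, 0, 0, 0, 0, 0, 0, 0, 0, 1], [], [], [], [], [0, 0, 0, 0, 0, 0, 0, 0, 0, 0, 0, -1, 1], [0, 0, 0, 0, 0, 0, 0, 0, 0, 0, 0, 0, 0, 1, 1], [], [], [], []], [[], [], [], [], [], [], [], [], [0, 0, 0, 0, 0, 0, 0, 0, 0, 0, 0, 0, 1, 1], [0, 0, 0, 0, 0, 0, 0, 0, 0, 0, 0, 0, 0, 1, 1], [],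 [0, 0, 0, 0, 0, 0, 0, 0, 0, 0, 0, 0, 0, 1, 1], [0, 0, 0, 0, 0, 0, 0, 0, 0, 0, 0, 0, -1, -2, 1, 3, 1], [], [0, 0, 0, 0, 0, 0, 0, 0, 0, 0, 0, 0, 0, 0, 0, 1, 1], [0, 0, 0, 0, 0, 0, 0, 0, 0, 0, 0, 0, 0, 0, 0, 0, 1, 1], []], [[], [], [], [], [], [], [], [], [], [], [0, 0, 0, 0, 0, 0, 0, 0, 0, 0, 0, 0, 0, 1], [], [], [0, 0, 0, 0, 0, 0, 0, 0, 0, 0, 0, 0, 0, -1, 1], [0, 0, 0, 0, 0, 0, 0, 0, 0, 0, 0, 0, 0, 0, 0, 1], [], []], [[], [], [], [], [], [], [], [], [], [], [0, 0, 0, 0, 0, 0, 0, 0, 0, 0, 0, 0, 0, 0, 1], [], [0, 0, 0, 0, 0, 0, 0, 0, 0, 0, 0, 0, 0, 0, 0, 1, 1], [0, 0, 0, 0, 0, 0, 0, 0, 0, 0, 0, 0, 0, 0, 0, 1], [0, 0, 0, 0, 0, 0, 0, 0, 0, 0, 0, 0, 0, 0, -1, -1, 1, 1], [0, 0, 0, 0, 0, 0, 0, 0, 0, 0, 0, 0, 0, 0, 0, 0, 0, 1, 1], []], [[], [], [], [], [], [], [], [], [], [], [], [], [0, 0, 0, 0, 0, 0, 0, 0, 0, 0, 0, 0, 0, 0, 0, 0, 1, 1], [],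 [0, 0, 0, 0, 0, 0, 0, 0, 0, 0, 0, 0, 0, 0, 0, 0, 0, 1, 1], [0, 0, 0, 0, 0, 0, 0, 0, 0, 0, 0, 0, 0, 0, 0, 0, -1, -1, 1, 2], [0, 0, 0, 0, 0, 0, 0, 0, 0, 0, 0, 0, 0, 0, 0, 0, 0, 0, 0, 0, 1]], [[], [], [], [], [], [], [], [], [], [], [], [], [], [], [], [0, 0, 0, 0, 0, 0, 0, 0, 0, 0, 0, 0, 0, 0, 0, 0, 0, 0, 0, 0, 1], [0, 0, 0, 0, 0, 0, 0, 0, 0, 0, 0, 0, 0, 0, 0, 0, 0, 0, 0, 0, -1, 1]]]

def bbL : List (List (List ℤ)) := [[[], [0, 1, 2, 2, 1], [], [], [], [], [], [], [], [], [], [], [], [], [], [], []], [[1], [-1, 1, 1], [0, 0, 1, 1], [0, 0, 0, 1, 1], [], [], [], [], [], [], [], [], [], [], [], [], []], [[], [1, 1], [-1, 0, 1], [0, 0, 1, 1], [0, 0, 0, 1], [], [], [0, 0, 0, 0, 1], [], [], [], [], [], [], [], [], []], [[], [1], [0, 1], [-1, 0, 2], [], [0, 0, 0, 1], [0, 0, 0, 1], [], [0, 0, 0, 0, 1], [], [], [], [], [], [], [], []], [[], [],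 [1, 1, 1], [], [-1, 0, 0, 1], [], [], [0, 0, 1, 1, 1], [], [], [], [], [], [], [], [], []], [[], [], [], [1, 2, 1], [], [-1, -1, 1, 1], [], [], [], [0, 0, 0, 1, 1], [], [], [], [], [], [], []], [[], [], [], [1, 1], [], [], [-1, 0, 1, 1], [], [0, 0, 1, 1], [], [], [0, 0, 0, 0, 1], [], [], [], [], []], [[], [], [1], [], [0, 1], [], [], [-1, 0, 1], [0, 0, 1, 1], [], [0, 0, 0, 1, 1], [], [], [], [], [], []], [[], [], [], [1], [], [], [0, 1], [0, 1], [-1, -1, 2], [0, 0, 0, 1], [0, 0, 0, 1], [], [0, 0, 0, 0, 1], [], [], [], []], [[], [], [], [], [], [1], [], [], [0, 1, 1], [-1, 0, 1, 1], [], [], [0, 0, 0, 1, 1], [], [], [], []], [[], [], [], [], [], [], [], [1, 1], [0, 1, 1], [], [-1, -1, 1, 1], [], [], [0, 0, 0, 1], [0, 0, 0, 0, 1], [], []], [[], [], [], [], [], [], [1, 1], [], [], [], [], [-1, 0, 1], [0, 0, 1, 2, 1], [], [], [], []], [[],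 [], [], [], [], [], [], [], [1], [0, 1], [], [0, 1], [-1, -1, 2, 1], [], [0, 0, 0, 1], [0, 0, 0, 0, 1], []], [[], [], [], [], [], [], [], [], [], [], [1, 1, 1], [], [], [-1, 0, 0, 1], [0, 0, 1, 1, 1], [], []], [[], [], [], [], [], [], [], [], [], [], [1], [], [0, 1, 1], [0, 1], [-1, -1, 1, 1], [0, 0, 0, 1, 1], []], [[], [], [], [], [], [], [], [], [], [], [], [], [1, 1], [], [0, 1, 1], [-1, -1, 1, 2], [0, 0, 0, 0, 1]], [[], [], [], [], [], [], [], [], [], [], [], [], [], [], [], [1, 2, 2, 1], [-1, -1, 0, 1, 1]]]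

def kL : List (List ℤ) := [[1], [0, 1, 2, 2, 1], [0, 0, 0, 1, 2, 2, 1], [0, 0, 0, 0, 1, 3, 4, 3, 1], [0, 0, 0, 0, 0, 0, 1, 1], [0, 0, 0, 0, 0, 0, 0, 1, 1, 1], [0, 0, 0, 0, 0, 0, 0, 1, 2, 2, 1], [0, 0, 0, 0, 0, 0, 0, 1, 2, 2, 1], [0, 0, 0, 0, 0, 0, 0, 0, 1, 3, 4, 3, 1], [0, 0, 0, 0, 0, 0, 0, 0, 0, 0, 1, 2, 2, 1], [0, 0, 0, 0, 0, 0, 0, 0, 0, 0, 1, 2, 2, 1], [0, 0, 0, 0, 0, 0, 0, 0, 0, 0, 0, 1, 1, 1], [0, 0, 0, 0, 0, 0, 0, 0, 0, 0, 0, 0, 1, 3, 4, 3, 1], [0, 0, 0, 0, 0, 0, 0, 0, 0, 0, 0, 0, 0, 1, 1], [0, 0, 0, 0, 0, 0, 0, 0, 0, 0, 0, 0, 0, 0, 1, 2, 2, 1], [0, 0, 0, 0, 0, 0, 0, 0, 0, 0, 0, 0, 0, 0, 0, 0, 1, 2, 2, 1], [0, 0, 0, 0, 0, 0, 0, 0, 0, 0, 0, 0, 0, 0, 0, 0, 0, 0, 0, 0, 1]]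

/-- the data -/
def data : Data A 1 96 17 where
  t := tab
  e := e
  wl := enc.wl
  mat c c' := (matL.getD c []).getD c' []
  kk c := kL.getD c []
  ff := [1, 2, 2, 1]
  bb c c' := (bbL.getD c []).getD c' []
  chkM := by decide +kernel
  chkK := by decide +kernel
  chkF := by decide +kernel
  chkP := by decide +kernel
  chkB := by decide +kernel
  wo := by decide +kernel
  ws := by decide +kernel

/-- `1*q^1*P2^2*P6^2*P8 / 2` (`Pn` the cyclotomic polynomials) -/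
def c1 : Crt 17 where
  th := [-1, 1, 3, 2]
  nu c := ([[0, 0, 0, 0, 0, 0, 1, 2, 2, 1], [0, 0, 0, 0, 0, -1, 1, 3, 2], [0, 0, 0, 0, -1, -1, 2, 3, 1], [0, 0, 0, 0, -2, -1, 3, 3], [0, 0, 0, -1, -1, 0, 2, 2, 1], [0, 0, 0, -1, -2, 0, 3, 2], [0, 0, 0, -2, -2, 1, 3, 1], [0, 0, 0, -2, -2, 1, 3, 1], [0, 0, 0, -3, -2, 2, 3], [0, 0, -1, -3, -1, 2, 2], [0, 0, -1, -3, -1, 2, 2], [0, 0, -2, -3, 0, 2, 1], [0, 0, -3, -3, 1, 2], [0, -1, -2, -2, 0, 1, 1], [0, -1, -3, -2, 1, 1], [0, -2, -3, -1, 1], [-1, -2, -2, -1]] : List (List ℤ)).getD c []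
  steps := [(12, [(0, [8, 42, 115, 143, 41, -129, -226, -198, -72, 56, 80, 32]), (1, [-8, -34, -97, -198, -293, -323, -278, -173, -38, 66, 92, 56, 16]), (2, [0, -8, -50, -161, -318, -401, -315, -128, 21, 80, 72, 36, 8]), (3, [0, 0, -16, -88, -248, -470, -620, -530, -228, 46, 136, 98, 40, 8]), (4, [0, 0, 0, -8, -38, -95, -130, -104, -34, 15, 30, 20, 8]), (5, [0, 0, 0, 0, -4, -18, -52, -102, -136, -94, -12, 34, 24, 8]), (6, [0, 0, 0, 0, -4, -12, -47, -116, -173, -135, -36, 29, 26, 8]), (7, [0, 0, 0, 0, -12, -56, -135, -188, -161, -63, 20, 45, 26, 8]), (8, [0, 0, 0, 0, 4, 16, 31, 11, -77, -178, -177, -73, 11, 20, 4]), (9, [0, 0, 0, 0, 0, 8, 44, 104, 144, 92, -32, -120, -96, -32]), (11, [0, 0, 0, 0, 0, 8, 44, 98, 139, 106, 5, -79, -72, -27, -2]), (12, [0, 0, 0, 0, 0, 8, 60, 206, 435, 627, 611, 316, -85, -293, -229, -84, -12]), (13, [0, 0,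 0, 0, 0, 0, 0, 4, 18, 40, 58, 57, 29, -5, -15, -6]), (14, [0, 0, 0, 0, 0, 0, 0, 4, 30, 98, 196, 271, 258, 139, -1, -56, -33, -6]), (15, [0, 0, 0, 0, 0, 0, 0, 0, 4, 28, 93, 196, 292, 313, 225, 84, -8, -21, -6]), (16, [0, 0, 0, 0, 0, 0, 0, 0, 0, 0, 0, 2, 11, 29, 50, 62, 53, 27, 6])]), (8, [(0, [-2, -10, -27, -38, -26, 17, 72, 96, 64, 16]), (1, [2, 8, 23, 51, 91, 131, 153, 139, 92, 40, 8]), (2, [0, 2, 12, 37, 76, 115, 131, 110, 65, 24, 4]), (3, [0, 0, 4, 22, 63, 123, 176, 187, 145, 78, 26, 4]), (4, [0, 0, 0, 2, 8, 19, 30, 36, 29, 16, 4]), (5, [0, 0, 0, 0, 2, 9, 22, 36, 43, 34, 18, 4]), (6, [0, 0, 0, 0, 2, 8, 20, 32, 38, 30, 16, 4]), (7, [0, 0, 0, 0, 2, 8, 19, 30, 36, 29, 16, 4]), (8, [0, 0, 0, 0, -2, -10, -27, -49, -66, -65, -45, -20, -4]), (9, [0, 0, 0, 0, 0, 0, 0, 1, 2, 4, 3, 2]), (11, [0, 0, 0, 0, 0, 0, 0, 2, 4, 8, 8, 6, 2])]), (3, [(0,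 [2, 9, 12, 4]), (1, [2, 7, 9, 7, 2]), (3, [0, -2, -9, -16, -16, -9, -2]), (5, [0, 0, 0, -1, -4, -5, -2]), (6, [0, 0, 0, -2, -5, -6, -2]), (9, [0, 0, 0, 0, 0, -1, -3, -2]), (11, [0, 0, 0, 0, 0, 0, -2, -1])]), (9, [(5, [-1]), (9, [0, -2, -2, -1])]), (6, [(6, [-1, -2, -2]), (11, [0, 0, 0, -1])]), (10, [(0, [-1, -1, 1, 8, 16, 8]), (1, [1, 4, 9, 16, 17, 12, 4]), (2, [0, 1, 4, 9, 10, 7, 2]), (4, [0, 0, 0, 1, 3, 3, 2]), (7, [0, 0, 0, 0, 2, 4, 4, 2])]), (14, [(13, [4, 6, 1, -3, -1]), (14, [4, 18, 23, 6, -9, -6, -1]), (15, [0, 0, 2, 9, 12, 5, -2, -1]), (16, [0, 0, 0, 0, 0, 1, 3, 1])]), (16, [(15, [1, 1, 1]), (16, [0, 2])]), (13, [(13, [1])]), (5, [(5, [1])]), (7, [(0, [1, 1, -5, -10, -4]), (1, [-1, -4, -9, -10, -7, -2]), (2, [0, -1, -4, -5, -4, -1]), (4, [0, 0, 0, -1, -1, -1])]), (2, [(0, [0, 2]), (1, [1, 1, 1])]), (4, [(4, [1])]), (11, [(11,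 [1])]), (15, [(16, [1])]), (1, [(0, [1])])]
  dn := [0, 1, 0, 0, 2, 1, 0, 1, 2, 0, 0, 1]
  den := 2

theorem ok1 : c1.ok (data.t.cls data.t.o) data.bb data.kk := by decide +kernel

theorem dvd1 : pDvd c1.den c1.dn := by decide +kernel

/-- `1*q^4*P3^2*P6^2*P8*P12 / 3` (`Pn` the cyclotomic polynomials) -/
def c2 : Crt 17 where
  th := [-1, -1]
  nu c := ([[0, 0, 0, 0, 0, 0, 0, 0, 0, 0, 0, 0, 1, 1, 1], [0, 0, 0, 0, 0, 0, 0, 0, 0, 0, 0, -1], [0, 0, 0, 0, 0, 0, 0, 0, 0, 0, 0, -1], [0, 0, 0, 0, 0, 0, 0, 0, 0, 1], [0, 0, 0, 0, 0, 0, 0, 0, 1, 1, 1], [0, 0, 0, 0, 0, 0, 0, -1], [0, 0, 0, 0, 0, 0, 0, -1], [0, 0, 0, 0, 0, 0, 0, -1], [0, 0, 0, 0, 0, 0, 1, -1, 1], [0, 0, 0, 0, 0, 0, 0, -1], [0, 0, 0, 0, 0, 0, 0, -1], [0, 0, 0, 0, 0, 0, 0, -1], [0, 0, 0, 0, 0, 1], [0, 0, 0, 0, 1, 1, 1], [0, 0, 0, -1], [0, 0, 0, -1], [1, 1, 1]] : List (List ℤ)).getD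 c []
  steps := [(12, [(0, [-1, -1, 1, 5, 7, 7, 5, 2]), (1, [1, 4, 11, 22, 33, 38, 33, 21, 9, 2]), (2, [0, -1, -6, -19, -37, -51, -52, -40, -23, -9, -2]), (3, [0, 0, 1, 2, -3, -18, -38, -50, -45, -28, -11, -2]), (4, [0, 0, 0, 2, 7, 14, 19, 19, 14, 7, 2]), (5, [0, 0, 0, -1, 1, 9, 21, 29, 28, 19, 9, 2]), (6, [0, 0, 0, -1, -1, 5, 20, 39, 50, 45, 28, 11, 2]), (7, [0, 0, 0, -1, -1, 3, 11, 18, 19, 14, 7, 2]), (8, [0, 0, 0, 1, 1, -5, -18, -32, -38, -33, -21, -9, -2]), (9, [0, 0, 0, 0, 0, 0, -2, -7, -12, -12, -7, -2]), (11, [0, 0, 0, 0, 0, 0, 0, -3, -11, -22, -29, -28, -19, -9, -2]), (12, [0, 0, 0, 0, 0, 0, 1, 4, 9, 13, 12, 7, 2]), (13, [0, 0, 0, 0, 0, 0, 1, 3, 4, 3, 1]), (14, [0, 0, 0, 0, 0, 0, -1, -3, -5, -6, -5, -3, -1]), (15, [0, 0, 0, 0, 0, 0, 0, 0, -1, -3, -5, -5, -3, -1]), (16, [0, 0, 0, 0, 0, 0, 0, 0, 0, 1, 2, 3, 2, 1])]), (8, [(0, [-1,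 2, 0, 2, 2, 3, 1, 2]), (1, [1, 1, 1, 0, -2, -6, -10, -11, -9, -5, -2]), (2, [0, -1, -2, -3, -3, -2, -1]), (3, [0, 0, 0, 0, 0, 1, 6, 14, 20, 20, 14, 7, 2]), (4, [0, 0, 0, 1, 2, 3, 3, 2, 1]), (5, [0, 0, 0, 0, 1, 1, 0, -5, -9, -11, -9, -5, -2]), (6, [0, 0, 0, 0, 0, 0, 1, 2, 2, 1]), (7, [0, 0, 0, 0, 0, -1, -2, -3, -3, -2, -1]), (9, [0, 0, 0, 0, 0, 0, -1, -2, -2, -1]), (11, [0, 0, 0, 0, 0, 0, 0, -1, -3, -8, -11, -12, -9, -5, -2]), (12, [0, 0, 0, 0, 0, 0, 0, 1, 4, 10, 17, 21, 20, 14, 7, 2]), (13, [0, 0, 0, 0, 0, 0, 0, 1, 3, 5, 6, 5, 3, 1]), (14, [0, 0, 0, 0, 0, 0, 0, -1, -3, -6, -9, -10, -9, -6, -3, -1]), (15, [0, 0, 0, 0, 0, 0, 0, 0, 0, -1, -3, -6, -8, -8, -6, -3, -1]), (16, [0, 0, 0, 0, 0, 0, 0, 0, 0, 0, 1, 2, 4, 4, 4, 2, 1])]), (10, [(0, [-1, -1, -2]), (1, [1, 3, 6, 7, 5, 2]), (3, [0, -1, -4, -9, -13, -12, -7, -2]), (5, [0, 0, 1, 3, 6, 7,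 5, 2]), (11, [0, 0, 0, 0, 1, 3, 6, 7, 5, 2]), (12, [0, 0, 0, 0, -1, -4, -9, -13, -12, -7, -2]), (13, [0, 0, 0, 0, -1, -3, -4, -3, -1]), (14, [0, 0, 0, 0, 1, 3, 5, 6, 5, 3, 1]), (15, [0, 0, 0, 0, 0, 0, 1, 3, 5, 5, 3, 1]), (16, [0, 0, 0, 0, 0, 0, 0, -1, -2, -3, -2, -1])]), (3, [(0, [1]), (1, [-1, -2, -2, -1]), (3, [0, 1, 3, 4, 3, 1]), (5, [0, -1, -2, -3, -2, -1]), (6, [0, 0, 0, -1, -2, -2, -1]), (9, [0, 0, 0, 1, 2, 2, 1]), (11, [0, 0, 0, 0, 0, 0, 1, 1, 1])]), (9, [(0, [-1]), (1, [1, 2, 2, 1]), (3, [0, -1, -3, -4, -3, -1]), (5, [0, 0, 1, 2, 2, 1]), (6, [0, 0, 0, 1, 2, 2, 1]), (11, [0, 0, 0, 0, 0, 0, -1, -1, -1])]), (6, [(0, [1]), (1, [-1, -2, -2, -1]), (3, [0, 1, 3, 4, 3, 1]), (5, [0, 0, -1, -2, -2, -1])]), (14, [(13, [1, 0, -1]), (14, [-1, 0, 0, 0, 1]), (15, [0, 0, -1, -1, -1, -1]), (16, [0, 0, 0, 1, 0, 1])]), (15, [(15, [1, 1]), (16, [0,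 -1])]), (7, [(0, [1, -1, -2, -2, -1]), (1, [-1, -2, -2, -1]), (2, [0, 1, 3, 5, 6, 5, 3, 1]), (4, [0, 0, 0, -1, -3, -4, -3, -1])]), (13, [(13, [1])]), (5, [(5, [1])]), (2, [(0, [-2, -1]), (1, [1, 2, 2, 1])]), (4, [(4, [1])]), (11, [(11, [1])]), (16, [(16, [1])]), (1, [(0, [1])])]
  dn := [0, 0, 0, 0, 1, 0, 1, 0, 3, 0, 2, 0, 4, 0, 2, 0, 3, 0, 1, 0, 1]
  den := 3

theorem ok2 : c2.ok (data.t.cls data.t.o) data.bb data.kk := by decide +kernel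

theorem dvd2 : pDvd c2.den c2.dn := by decide +kernel

/-- `1*q^4*P2^4*P4^2*P6^2*P12 / 4` (`Pn` the cyclotomic polynomials) -/
def c3 : Crt 17 where
  th := [-1, -1, 1]
  nu c := ([[0, 0, 0, 0, 0, 0, 0, 0, 0, 0, 0, 0, 1, 3, 4, 3, 1], [0, 0, 0, 0, 0, 0, 0, 0, 0, 0, 0, -1, -2, 0, 1], [0, 0, 0, 0, 0, 0, 0, 0, 0, 0, 0, -2, -2], [0, 0, 0, 0, 0, 0, 0, 0, 0, 1, 2, -2, -1], [0, 0, 0, 0, 0, 0, 0, 0, 1, 2, 2, 1], [0, 0, 0, 0, 0, 0, 0, -1, -1, 2, 3, 1], [0, 0, 0, 0, 0, 0, 0, -1, 0, 2, 1], [0, 0, 0, 0, 0, 0, 0, -1, 0, 2, 1], [0, 0, 0, 0, 0, 0, 1, -1, 0, 1, -1], [0, 0, 0, 0, 0, 0, -1, -2, 0, 1], [0, 0, 0, 0, 0, 0, -1, -2, 0, 1], [0, 0, 0, 0, 0, -1, -3, -2, 1, 1], [0, 0, 0, 0, 1, 2, -2, -1], [0, 0, 0, 0, 0, -1, -2, -2, -1], [0, 0, 0, 0, 2, 2], [0, 0, -1, 0, 2, 1], [-1, -3, -4, -3, -1]] : List (List ℤ)).getD c []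
  steps := [(12, [(0, [1, -1, -16, -18, -6, -12, -2, 4, 9, 1, 18, 18, 4]), (1, [-1, -4, -2, 9, 16, 8, -8, -6, 1, -6, -10, -3, 4, 2]), (2, [0, 1, 6, 14, 19, 22, 22, 6, -14, -19, -22, -26, -25, -20, -10, -2]), (3, [0, 0, 0, 0, 0, 2, 16, 44, 50, 30, 28, 26, -8, -40, -36, -14, -2]), (4, [0, 0, 0, -1, -6, -15, -20, -14, -8, -10, -10, -3, 10, 17, 10, 2]), (5, [0, 0, 0, 0, -2, -10, -22, -30, -18, 8, 10, -2, 10, 30, 28, 12, 2]), (6, [0, 0, 0, 0, -1, -4, -10, -25, -38, -36, -34, -32, -15, 10, 24, 21, 10, 2]), (7, [0, 0, 0, 0, -1, -4, -8, -13, -8, 10, 22, 22, 19, 22, 22, 11, 2]), (8, [0, 0, 0, 0, 1, 5, 16, 35, 35, 10, 4, 20, 23, 3, -20, -23, -11, -2]), (9, [0, 0, 0, 0, 0, 0, 0, 2, 8, 6, -14, -32, -38, -38, -24, -2, 10, 8, 2]), (11, [0, 0, 0, 0, 0, 0, -1, -4, -4, 1, 6, 12, 6, -8, 1, 18, 14, -1, -6, -2]), (12, [0, 0, 0, 0, 0, 0, 1, 5, 8, 9, 19, 26,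 30, 42, 31, -3, -24, -23, -15, -8, -2]), (13, [0, 0, 0, 0, 0, 0, 0, 0, -2, -7, -7, -6, -18, -32, -32, -22, -12, -5, -1]), (14, [0, 0, 0, 0, 0, 0, 0, 0, 2, 5, 2, 6, 19, 20, 18, 22, 22, 15, 8, 4, 1]), (15, [0, 0, 0, 0, 0, 0, 0, 0, -1, -2, 1, 1, -2, 1, 6, 14, 23, 24, 17, 9, 4, 1]), (16, [0, 0, 0, 0, 0, 0, 0, 0, 0, 0, -1, -3, -3, -5, -10, -14, -18, -18, -13, -7, -3, -1])]), (8, [(0, [2, -11, 6, -6, 5, -3, 4, 0, 3]), (1, [-2, 1, 3, 3, -1, -4, -2, -1, 1, 1, 1]), (2, [0, 2, 3, 4, 3, 1, -1, -3, -3, -3, -2, -1]), (3, [0, 0, 0, -1, 1, 4, 7, 6, 1, -4, -7, -5, -2]), (4, [0, 0, 0, -2, -3, -2, 0, 1, 1, 2, 2, 1]), (5, [0, 0, 0, 0, -3, -4, -2, 3, 7, 8, 8, 5, 2]), (6, [0, 0, 0, 0, -2, -4, -6, -8, -10, -10, -6, -2]), (7, [0, 0, 0, 0, -2, -3, -2, 0, 1, 1, 2, 2, 1]), (8, [0, 0, 0, 0, 2, 5, 5, 2, -1, -2, -3, -4, -3, -1]), (9, [0, 0, 0, 0, 0, 0, 1, 2, 0, -5,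 -9, -8, -4, -1]), (11, [0, 0, 0, 0, 0, 0, 0, 2, 4, 6, 8, 10, 10, 6, 2])]), (3, [(0, [1, -2, 1]), (1, [-1, -1, 0, 1, 1]), (3, [0, 1, 2, 1, -1, -2, -1]), (5, [0, 0, 1, 2, 2, 2, 1]), (6, [0, 0, 0, -1, -2, -1]), (9, [0, 0, 0, 0, -1, -3, -3, -1]), (11, [0, 0, 0, 0, 0, 0, 1, 2, 1])]), (9, [(5, [-1]), (9, [0, 0, 0, 1])]), (6, [(6, [1]), (11, [0, 0, 0, -1])]), (10, [(0, [-1, 6, -3, -5, -4, -1]), (1, [1, -1, -4, -4, 0, 4, 3, 1]), (2, [0, -1, -1, 2, 6, 8, 6, 3, 1]), (4, [0, 0, 0, 1, 2, 1, -1, -2, -1]), (7, [0, 0, 0, 0, 0, -2, -6, -8, -6, -2])]), (15, [(13, [1, 0, -2, -1]), (14, [-1, 1, 1, -1, 1, 1]), (15, [0, -1, 1, -1, 3, 1, -1]), (16, [0, 0, 0, -1, 0, -2, 1])]), (14, [(15, [-1, 1, 1]), (16, [0, 0, -1])]), (7, [(0, [1, -5, 0, -3, -1]), (1, [-1, 0, 2, 4, 4, 2, 1]), (2, [0, 1, 2, 2, 2, 2, 2, 1]), (4, [0, 0, 0, -1, -3, -4, -3, -1])]), (13, [(13,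 [1])]), (5, [(5, [1])]), (2, [(0, [-2]), (1, [1, 2, 2, 1])]), (4, [(4, [1])]), (11, [(11, [1])]), (16, [(16, [1])]), (1, [(0, [1])])]
  dn := [0, 0, 0, 0, 1, 2, 2, 4, 5, 4, 6, 6, 4, 6, 6, 4, 5, 4, 2, 2, 1]
  den := 4

theorem ok3 : c3.ok (data.t.cls data.t.o) data.bb data.kk := by decide +kernel

theorem dvd3 : pDvd c3.den c3.dn := by decide +kernel

end Cfsg.Agent.H996.Eight.TabF4b
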