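import Cfsg.Agent.H996.Eight.TabF4a
import Cfsg.Agent.H996.Eight.TabF4b
import Cfsg.Agent.H996.Eight.TabE6b
import Cfsg.Agent.H996.Eight.TabE6c
import Cfsg.Agent.H996.Eight.TabE7a
import Cfsg.Agent.H996.Eight.TabE7b
import Cfsg.Agent.H996.Eight.TabE8a
import Cfsg.Agent.H996.Eight.Interval
import Cfsg.Agent.H35.ExcIdx
import Cfsg.Agent.H167.HasSt

/-!
# At least eight character degrees: `F₄(q)`, `E₆(q)`, `E₇(q)`, `E₈(q)` (helper996, for S4899)
-/

set_option autoImplicit false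

namespace Cfsg.Agent.H996.Eight.Rows

open Cfsg Cfsg.Agent.H967.Sph Cfsg.Agent.H64.Dl.Sph Cfsg.Agent.H996.Eight.Cert Cfsg.Agent.H996.Eight.Interval
open CoxeterSystem Cfsg.Agent.ChevalleyStructure.CoxeterGeom Cfsg.Agent.Tits.Roots Cfsg.Agent.Tits.Core
  Cfsg.Agent.Nodes.Reps Cfsg.Agent.Nodes.BNOf Cfsg.Agent.Nodes.Bruhat Cfsg.Agent.Nodes.LeviDec

universe u

/-! ### character degrees -/

theorem mem_of_irr {G : Type*} [Group G] {χ : G → ℂ} (hχ : IsIrrCharacter G χ) {d : ℕ} (h : χ 1 = d) :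
    d ∈ charDegrees G := by
  refine ⟨⟨χ, hχ⟩, ?_⟩
  have h1 := Blocks.Basic.irr_one_eq_charDegree hχ
  rw [h] at h1
  exact_mod_cast h1.symm

theorem mem_congr {G G' : Type*} [Group G] [Group G'] (e : G ≃* G') {d : ℕ} (h : d ∈ charDegrees G') :
    d ∈ charDegrees G := by
  obtain ⟨χ, rfl⟩ := h
  refine mem_of_irr (χ := (χ : G' → ℂ) ∘ e) (Characters.Core.isIrr_comp e.toMonoidHom e.surjective χ.2) ?_
  show (χ : G' → ℂ) (e 1) = _
  rw [map_one]
  exact Blocks.Basic.irr_one_eq_charDegree χ.2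

theorem one_mem {G : Type*} [Group G] : 1 ∈ charDegrees G :=
  mem_of_irr (χ := (1 : G → ℂ)) Characters.Core.isIrr_one (by simp)

theorem ncard_congr {G G' : Type*} [Group G] [Group G'] (e : G ≃* G') :
    (charDegrees G).ncard = (charDegrees G').ncard := by
  congr 1
  ext d
  exact ⟨fun h => mem_congr e.symm h, fun h => mem_congr e h⟩

/-- the Steinberg character -/
theorem st_mem {p : ℕ} [hp : Fact p.Prime] {G : Type*} [Group G] [Finite G] (h : Nodes.RGDChev.HasRGD p G)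
    {b d P : ℕ} (hd : ¬ p ∣ d) (hP : ¬ p ∣ P) (hc : d * Nat.card G = p ^ b * P) : p ^ b ∈ charDegrees G := by
  obtain ⟨χ, hχ, h1, -⟩ := H167.StChar.HasSt.of_hasRGD h
  refine mem_of_irr hχ ?_
  rw [h1]
  congr 2
  have hG : Nat.card G ≠ 0 := Nat.card_pos.ne'
  have hd0 : d ≠ 0 := fun h0 => hd (h0 ▸ dvd_zero p)
  have hP0 : P ≠ 0 := fun h0 => hP (h0 ▸ dvd_zero p)
  have h2 := congrArg (fun n => n.factorization p) hc
  simp only [Nat.factorization_mul hd0 hG, Nat.factorization_mul (pow_ne_zero b hp.out.ne_zero) hP0,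
    Finsupp.coe_add, Pi.add_apply, Nat.factorization_eq_zero_of_not_dvd hd,
    Nat.factorization_eq_zero_of_not_dvd hP, Nat.Prime.factorization_pow hp.out, Finsupp.single_eq_same] at h2
  omega

/-! ### comparisons -/

/-- `p₁ / d₁ < p₂ / d₂` for `x ≥ 2` -/
def ltP (d₁ : ℕ) (p₁ : List ℤ) (d₂ : ℕ) (p₂ : List ℤ) : Bool := pPos (pAdd (pScale d₁ p₂) (pNeg (pScale d₂ p₁)))

/-- powers -/
def pPow (p : List ℤ) : ℕ → List ℤ
  | 0 => [1]
  | n + 1 => pMul p (pPow p n)

theorem ev_pPow (x : ℚ) (p : List ℤ) : ∀ n : ℕ, ev x (pPow p n) = ev x p ^ n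
  | 0 => by rw [pPow, ev_cons, ev_nil, pow_zero]; push_cast; ring
  | n + 1 => by rw [pPow, ev_pMul, ev_pPow x p n, pow_succ, mul_comm]

/-- `y = p x / d` -/
structure Is (x d : ℕ) (p : List ℤ) (y : ℕ) : Prop where
  pos : 0 < d
  eq : (d : ℚ) * y = ev x p

theorem lt_of_ltP {x : ℕ} (hx : 2 ≤ x) {d₁ d₂ : ℕ} {p₁ p₂ : List ℤ} {y₁ y₂ : ℕ} (h1 : Is x d₁ p₁ y₁)
    (h2 : Is x d₂ p₂ y₂) (h : ltP d₁ p₁ d₂ p₂ = true) : y₁ < y₂ := by
  have hx' : (2 : ℚ) ≤ (x : ℚ) := by exact_mod_cast hx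
  have h3 := ev_pos hx' h
  rw [ev_pAdd, ev_pNeg, ev_pScale, ev_pScale, ← h1.eq, ← h2.eq] at h3
  push_cast at h3
  have hd1 : (0 : ℚ) < d₁ := by exact_mod_cast h1.pos
  have hd2 : (0 : ℚ) < d₂ := by exact_mod_cast h2.pos
  have h4 : (d₁ : ℚ) * d₂ * y₁ < (d₁ : ℚ) * d₂ * y₂ := by linarith
  have h5 := lt_of_mul_lt_mul_left h4 (by positivity)
  exact_mod_cast h5

theorem Is.one (x : ℕ) : Is x 1 [1] 1 := ⟨one_pos, by rw [ev_cons, ev_nil]; push_cast; ring⟩

theorem Is.xpow (x n : ℕ) : Is x 1 (pShift n [1]) (x ^ n) :=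
  ⟨one_pos, by rw [ev_pShift, ev_cons, ev_nil]; push_cast; ring⟩

theorem Is.mul {x d₁ d₂ : ℕ} {p₁ p₂ : List ℤ} {y₁ y₂ : ℕ} (h1 : Is x d₁ p₁ y₁) (h2 : Is x d₂ p₂ y₂) :
    Is x (d₁ * d₂) (pMul p₁ p₂) (y₁ * y₂) :=
  ⟨Nat.mul_pos h1.pos h2.pos, by rw [ev_pMul, ← h1.eq, ← h2.eq]; push_cast; ring⟩

theorem Is.pow {x d : ℕ} {p : List ℤ} {y : ℕ} (h : Is x d p y) (n : ℕ) : Is x (d ^ n) (pPow p n) (y ^ n) :=
  ⟨Nat.pow_pos h.pos, by rw [ev_pPow, ← h.eq]; push_cast; ring⟩

/-- the value of a certificate -/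
theorem isVal {m : ℕ} {C : Crt m} {o : Fin m} {B : Fin m → Fin m → List ℤ} {K : Fin m → List ℤ} (hC : C.ok o B K)
    (hD : pDvd C.den C.dn) {x : ℕ} (hx : 2 ≤ x) : Is x C.den C.dn (val C.den C.dn x) :=
  ⟨hC.2.2.2.2.2, val_spec hC.2.2.2.2.2 hD hC.2.1 hx⟩

/-- increasing lists of degrees -/
theorem length_le {G : Type*} [Group G] [Finite G] (l : List ℕ) (h : ∀ x ∈ l, x ∈ charDegrees G)
    (hl : l.Pairwise (· < ·)) : l.length ≤ (charDegrees G).ncard := by
  classical
  have h1 : l.toFinset.card = l.length := List.toFinset_card_of_nodup (hl.imp fun h => ne_of_lt h)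
  rw [← h1]
  exact card_le _ fun x hx => h x (List.mem_toFinset.1 hx)

/-- an increasing list of degrees and `e` more before the last one -/
theorem length_add_le {G : Type*} [Group G] [Finite G] {a : ℕ} (hs : Small G a) (ha : 1 ≤ a) (l : List ℕ) {X D : ℕ}
    (e : ℕ) (h : ∀ x ∈ l, x ∈ charDegrees G) (hl : l.Pairwise (· < ·)) (hX : 1 ≤ X) (hlX : ∀ x ∈ l, x ≤ X)
    (hD : D ∈ charDegrees G) (hXD : a ^ e * X < D) : l.length + 1 + e ≤ (charDegrees G).ncard := by
  classical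
  have h1 : l.toFinset.card = l.length := List.toFinset_card_of_nodup (hl.imp fun h => ne_of_lt h)
  have hXX : X ≤ a ^ e * X := Nat.le_mul_of_pos_left _ (Nat.pow_pos ha)
  have h2 : (insert D l.toFinset).card = l.length + 1 := by
    rw [Finset.card_insert_of_notMem, h1]
    intro hm
    have := hlX D (List.mem_toFinset.1 hm)
    omega
  obtain ⟨t, -, ht, htc, -⟩ := card_add_le hs ha hX hD e hXD (insert D l.toFinset)
    (fun x hx => by
      rcases Finset.mem_insert.1 hx with rfl | hx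
      · exact hD
      · exact h x (List.mem_toFinset.1 hx))
    (fun x hx => by
      rcases Finset.mem_insert.1 hx with rfl | hx
      · exact Or.inr hXD
      · exact Or.inl (hlX x (List.mem_toFinset.1 hx)))
  rw [← h2, ← htc]
  exact card_le t ht

/-! ### the split groups -/

theorem exists_deg' {I W : Type*} {Y : Type u} [Fintype I] [DecidableEq I] [Group W] [Finite W] [Group Y] [Finite Y]
    {M : CoxeterMatrix I} {cs : CoxeterSystem M W} {A A' : I → I → ℤ} {h : IsCartan M A} {p : ℕ} {T : Subgroup Y}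
    {n : I → Y} {X : (I → ℤ) → Subgroup Y} (R : RGD cs h p T n X) (hG : GG cs h T X = ⊤) (hA : A = A')
    {j : I} {N m : ℕ} (D : Data A' j N m) {x : ℕ} (hx : 2 ≤ x) (hq : ∀ i, Nat.card (X (sr i)) = x ^ D.e i)
    (C : Crt m) (hC : C.ok (D.t.cls D.t.o) D.bb D.kk) (hD : pDvd C.den C.dn) :
    val C.den C.dn x ∈ charDegrees Y := by
  subst hA
  obtain ⟨χ, hχ, h1⟩ := exists_deg R hG D hx hq C hC hD
  exact mem_of_irr hχ h1

open Cfsg.Lie Cfsg.Agent.ChevalleyStructure Cfsg.Agent.ChevalleyStructure.CoxeterGeomTypes Cfsg.Agent.Nodes.RGDChev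
  Cfsg.Agent.H35.ExcIdx

theorem two_le_card (K : Type*) [Field K] [Fintype K] : 2 ≤ Fintype.card K := Fintype.one_lt_card

instance finite_group (D : ChevalleyDatum) (K : Type*) [Field K] [Finite K] : Finite ↥(D.group K) := by
  have : Finite (GL D.Idx K) := by
    have : Finite (Matrix D.Idx D.Idx K) := inferInstance
    infer_instance
  infer_instance

theorem split_mem {D : ChevalleyDatum} {l : ℕ} {M : CoxeterMatrix (Fin l)} (hp : IsType D l M) (K : Type u) [Field K]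
    [Fintype K] {A' : Fin l → Fin l → ℤ} (hA : cartanOf D l = A') {j : Fin l} {N m : ℕ} (Da : Data A' j N m)
    (he : ∀ i, Da.e i = 1) (C : Crt m) (hC : C.ok (Da.t.cls Da.t.o) Da.bb Da.kk) (hD : pDvd C.den C.dn) :
    val C.den C.dn (Fintype.card K) ∈ charDegrees ↥(D.group K) := by
  obtain ⟨r, hr⟩ := CharP.exists K
  have : Fact r.Prime := ⟨CharP.char_is_prime K r⟩
  have := finite_W hp M.toCoxeterSystem
  refine exists_deg' (rgd (K := K) hp M.toCoxeterSystem r) (GG_eq_top hp K M.toCoxeterSystem) hA Da (two_le_card K)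
    (fun i => ?_) C hC hD
  rw [card_XX hp K M.toCoxeterSystem (isRoot_sr _ _ i), he, pow_one, Nat.card_eq_fintype_card]

/-- the Steinberg character of the split groups -/
theorem split_st {D : ChevalleyDatum} {l : ℕ} {M : CoxeterMatrix (Fin l)} (hp : IsType D l M) (K : Type u) [Field K]
    [Fintype K] {N d : ℕ} {L : List ℕ} (hd : d ∣ Fintype.card K - 1) (hL : ∀ k ∈ L, 0 < k)
    (hc : d * Nat.card ↥(D.group K) = Fintype.card K ^ N * H35.PoinNum.pr (Fintype.card K) L) :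
    Fintype.card K ^ N ∈ charDegrees ↥(D.group K) := by
  obtain ⟨r, f, hr, hf, hK, hch⟩ : ∃ r f : ℕ, r.Prime ∧ f ≠ 0 ∧ Fintype.card K = r ^ f ∧ CharP K r := by
    obtain ⟨r, hr⟩ := CharP.exists K
    obtain ⟨f, hp, hf⟩ := FiniteField.card K r
    exact ⟨r, f, hp, f.ne_zero, hf, hr⟩
  have : Fact r.Prime := ⟨hr⟩
  rw [hK] at hc hd ⊢
  rw [← pow_mul] at hc ⊢
  exact st_mem (hasRGD_group hp K r) (not_dvd_of_dvd hr hf hd) (not_dvd_pr hr hf L hL) hc

/-! ### `F₄` -/

theorem hA_F4 : cartanOf chevF4 4 = TabF4a.A := by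
  funext i k
  revert i k
  decide +kernel

theorem hA_F4b : cartanOf chevF4 4 = TabF4b.A := by
  funext i k
  revert i k
  decide +kernel

/-- the first nonzero coefficient is `±1` -/
def pUnit : List ℤ → Bool
  | [] => false
  | a :: p => if a = 0 then pUnit p else decide (a.natAbs = 1)

theorem evZ_ne_of_pUnit {x : ℤ} (hx : 2 ≤ x) : ∀ p : List ℤ, pUnit p = true → evZ x p ≠ 0
  | [], h => absurd h (by simp [pUnit])
  | a :: p, h => by
    rw [pUnit] at h
    rw [evZ]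
    split_ifs at h with ha
    · rw [ha, zero_add]
      exact mul_ne_zero (by omega) (evZ_ne_of_pUnit hx p h)
    · rw [decide_eq_true_eq] at h
      intro h0
      have h1 : x ∣ a := ⟨-evZ x p, by linarith⟩
      have h2 : x ∣ 1 := by
        rcases Int.natAbs_eq a with h3 | h3 <;> rw [h] at h3 <;> rw [h3] at h1
        · exact h1
        · exact (dvd_neg).1 h1
      have h3 := Int.le_of_dvd one_pos h2
      omega

theorem ne_of_pUnit {x : ℕ} (hx : 2 ≤ x) {d₁ d₂ : ℕ} {p₁ p₂ : List ℤ} {y₁ y₂ : ℕ} (h1 : Is x d₁ p₁ y₁)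
    (h2 : Is x d₂ p₂ y₂) (h : pUnit (pAdd (pScale d₁ p₂) (pNeg (pScale d₂ p₁))) = true) : y₁ ≠ y₂ := by
  rintro rfl
  have h3 := evZ_ne_of_pUnit (x := (x : ℤ)) (by exact_mod_cast hx) _ h
  apply h3
  have h4 : (evZ (x : ℤ) (pAdd (pScale d₁ p₂) (pNeg (pScale d₂ p₁))) : ℚ) = 0 := by
    rw [evZ_cast, ev_pAdd, ev_pNeg, ev_pScale, ev_pScale]
    have e1 := h1.eq
    have e2 := h2.eq
    push_cast
    rw [← e1, ← e2]
    ring
  exact_mod_cast h4

/-- **`F₄(q)` has at least eight character degrees.** -/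
theorem eight_F4' (K : Type u) [Field K] [Fintype K] : 8 ≤ (charDegrees ↥(chevF4.group K)).ncard := by
  obtain ⟨x, hx⟩ : ∃ x, x = Fintype.card K := ⟨_, rfl⟩
  have h2 : 2 ≤ x := hx ▸ two_le_card K
  have m1 := split_mem hpF4 K hA_F4 TabF4a.data (by decide +kernel) TabF4a.c1 TabF4a.ok1 TabF4a.dvd1
  have m2 := split_mem hpF4 K hA_F4 TabF4a.data (by decide +kernel) TabF4a.c2 TabF4a.ok2 TabF4a.dvd2
  have m3 := split_mem hpF4 K hA_F4 TabF4a.data (by decide +kernel) TabF4a.c3 TabF4a.ok3 TabF4a.dvd3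
  have m4 := split_mem hpF4 K hA_F4 TabF4a.data (by decide +kernel) TabF4a.c4 TabF4a.ok4 TabF4a.dvd4
  have m5 := split_mem hpF4 K hA_F4b TabF4b.data (by decide +kernel) TabF4b.c2 TabF4b.ok2 TabF4b.dvd2
  have m6 := split_mem hpF4 K hA_F4b TabF4b.data (by decide +kernel) TabF4b.c3 TabF4b.ok3 TabF4b.dvd3
  have mS : Fintype.card K ^ 24 ∈ charDegrees ↥(chevF4.group K) := by
    refine split_st hpF4 K (d := 1) (L := [2, 6, 8, 12]) (one_dvd _) (by simp) ?_
    rw [one_mul, Cfsg.Agent.S1062.result rfl]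
    simp only [H35.PoinNum.pr_cons, H35.PoinNum.pr_nil]
    ring
  rw [← hx] at m1 m2 m3 m4 m5 m6 mS
  have i1 := isVal TabF4a.ok1 TabF4a.dvd1 h2
  have i2 := isVal TabF4a.ok2 TabF4a.dvd2 h2
  have i3 := isVal TabF4a.ok3 TabF4a.dvd3 h2
  have i4 := isVal TabF4a.ok4 TabF4a.dvd4 h2
  have i5 := isVal TabF4b.ok2 TabF4b.dvd2 h2
  have i6 := isVal TabF4b.ok3 TabF4b.dvd3 h2
  have iS := Is.xpow x 24
  have l1 := lt_of_ltP h2 (Is.one x) i1 (by decide +kernel)
  have l2 := lt_of_ltP h2 i1 i2 (by decide +kernel)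
  have l3 := lt_of_ltP h2 i2 i3 (by decide +kernel)
  have l4 := lt_of_ltP h2 i3 i4 (by decide +kernel)
  have l5 := lt_of_ltP h2 i4 i5 (by decide +kernel)
  have l6 := lt_of_ltP h2 i4 i6 (by decide +kernel)
  have l7 := lt_of_ltP h2 i5 iS (by decide +kernel)
  have l8 := lt_of_ltP h2 i6 iS (by decide +kernel)
  have hne := ne_of_pUnit h2 i5 i6 (by decide +kernel)
  generalize val TabF4a.c1.den TabF4a.c1.dn x = a1 at *
  generalize val TabF4a.c2.den TabF4a.c2.dn x = a2 at *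
  generalize val TabF4a.c3.den TabF4a.c3.dn x = a3 at *
  generalize val TabF4a.c4.den TabF4a.c4.dn x = a4 at *
  generalize val TabF4b.c2.den TabF4b.c2.dn x = a5 at *
  generalize val TabF4b.c3.den TabF4b.c3.dn x = a6 at *
  generalize x ^ 24 = aS at *
  rcases lt_or_gt_of_ne hne with h | h
  · refine length_le [1, a1, a2, a3, a4, a5, a6, aS] ?_ ?_
    · simp only [List.mem_cons, List.not_mem_nil, or_false]
      rintro y (rfl | rfl | rfl | rfl | rfl | rfl | rfl | rfl)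
      exacts [one_mem, m1, m2, m3, m4, m5, m6, mS]
    · simp only [List.pairwise_cons, List.mem_cons, List.not_mem_nil, or_false, forall_eq_or_imp, forall_eq,
        false_imp_iff, implies_true, List.Pairwise.nil, and_true]
      omega
  · refine length_le [1, a1, a2, a3, a4, a6, a5, aS] ?_ ?_
    · simp only [List.mem_cons, List.not_mem_nil, or_false]
      rintro y (rfl | rfl | rfl | rfl | rfl | rfl | rfl | rfl)
      exacts [one_mem, m1, m2, m3, m4, m6, m5, mS]
    · simp only [List.pairwise_cons, List.mem_cons, List.not_mem_nil, or_false, forall_eq_or_imp, forall_eq,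
        false_imp_iff, implies_true, List.Pairwise.nil, and_true]
      omega

/-! ### `E₆` -/

theorem hA_E6b : cartanOf chevE6 6 = TabE6b.A := by
  funext i k
  revert i k
  decide +kernel

theorem hA_E6c : cartanOf chevE6 6 = TabE6c.A := by
  funext i k
  revert i k
  decide +kernel

/-- **`E₆(q)` has at least eight character degrees.** -/
theorem eight_E6' (K : Type u) [Field K] [Fintype K] [IsSimpleGroup ↥(chevE6.group K)] :
    8 ≤ (charDegrees ↥(chevE6.group K)).ncard := by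
  obtain ⟨x, hx⟩ : ∃ x, x = Fintype.card K := ⟨_, rfl⟩
  have h2 : 2 ≤ x := hx ▸ two_le_card K
  have m1 := split_mem hpE6 K hA_E6b TabE6b.data (by decide +kernel) TabE6b.c1 TabE6b.ok1 TabE6b.dvd1
  have m2 := split_mem hpE6 K hA_E6b TabE6b.data (by decide +kernel) TabE6b.c2 TabE6b.ok2 TabE6b.dvd2
  have m3 := split_mem hpE6 K hA_E6b TabE6b.data (by decide +kernel) TabE6b.c3 TabE6b.ok3 TabE6b.dvd3
  have m4 := split_mem hpE6 K hA_E6b TabE6b.data (by decide +kernel) TabE6b.c4 TabE6b.ok4 TabE6b.dvd4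
  have m5 := split_mem hpE6 K hA_E6c TabE6c.data (by decide +kernel) TabE6c.c3 TabE6c.ok3 TabE6c.dvd3
  have mS : Fintype.card K ^ 36 ∈ charDegrees ↥(chevE6.group K) := by
    refine split_st hpE6 K (d := Nat.gcd 3 (Fintype.card K - 1)) (L := [2, 5, 6, 8, 9, 12]) (Nat.gcd_dvd_right _ _)
      (by simp) ?_
    rw [Cfsg.Agent.S1063.result rfl]
    simp only [H35.PoinNum.pr_cons, H35.PoinNum.pr_nil]
    ring
  rw [← hx] at m1 m2 m3 m4 m5 mS
  have i1 := isVal TabE6b.ok1 TabE6b.dvd1 h2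
  have i2 := isVal TabE6b.ok2 TabE6b.dvd2 h2
  have i3 := isVal TabE6b.ok3 TabE6b.dvd3 h2
  have i4 := isVal TabE6b.ok4 TabE6b.dvd4 h2
  have i5 := isVal TabE6c.ok3 TabE6c.dvd3 h2
  have iS := Is.xpow x 36
  have l1 := lt_of_ltP h2 (Is.one x) i1 (by decide +kernel)
  have l2 := lt_of_ltP h2 i1 i2 (by decide +kernel)
  have l3 := lt_of_ltP h2 i2 i3 (by decide +kernel)
  have l4 := lt_of_ltP h2 i3 i4 (by decide +kernel)
  have l5 := lt_of_ltP h2 i4 i5 (by decide +kernel)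
  have l6 := lt_of_ltP h2 ((i1.pow 1).mul i5) iS (by decide +kernel)
  generalize val TabE6b.c1.den TabE6b.c1.dn x = a1 at *
  generalize val TabE6b.c2.den TabE6b.c2.dn x = a2 at *
  generalize val TabE6b.c3.den TabE6b.c3.dn x = a3 at *
  generalize val TabE6b.c4.den TabE6b.c4.dn x = a4 at *
  generalize val TabE6c.c3.den TabE6c.c3.dn x = a5 at *
  refine length_add_le (Small.of_mem m1 l1) (by omega) [1, a1, a2, a3, a4, a5] (X := a5) 1 ?_ ?_ (by omega) ?_ mS l6
  · simp only [List.mem_cons, List.not_mem_nil, or_false]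
    rintro y (rfl | rfl | rfl | rfl | rfl | rfl)
    exacts [one_mem, m1, m2, m3, m4, m5]
  · simp only [List.pairwise_cons, List.mem_cons, List.not_mem_nil, or_false, forall_eq_or_imp, forall_eq,
      false_imp_iff, implies_true, List.Pairwise.nil, and_true]
    omega
  · simp only [List.mem_cons, List.not_mem_nil, or_false, forall_eq_or_imp, forall_eq]
    omega

/-! ### `E₇` -/

theorem hA_E7a : cartanOf chevE7 7 = TabE7a.A := by
  funext i k
  revert i k
  decide +kernel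

theorem hA_E7b : cartanOf chevE7 7 = TabE7b.A := by
  funext i k
  revert i k
  decide +kernel

/-- **`E₇(q)` has at least eight character degrees.** -/
theorem eight_E7' (K : Type u) [Field K] [Fintype K] [IsSimpleGroup ↥(chevE7.group K)] :
    8 ≤ (charDegrees ↥(chevE7.group K)).ncard := by
  obtain ⟨x, hx⟩ : ∃ x, x = Fintype.card K := ⟨_, rfl⟩
  have h2 : 2 ≤ x := hx ▸ two_le_card K
  have m1 := split_mem hpE7 K hA_E7a TabE7a.data (by decide +kernel) TabE7a.c1 TabE7a.ok1 TabE7a.dvd1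
  have m2 := split_mem hpE7 K hA_E7a TabE7a.data (by decide +kernel) TabE7a.c2 TabE7a.ok2 TabE7a.dvd2
  have m3 := split_mem hpE7 K hA_E7a TabE7a.data (by decide +kernel) TabE7a.c3 TabE7a.ok3 TabE7a.dvd3
  have m4 := split_mem hpE7 K hA_E7b TabE7b.data (by decide +kernel) TabE7b.c3 TabE7b.ok3 TabE7b.dvd3
  have m5 := split_mem hpE7 K hA_E7b TabE7b.data (by decide +kernel) TabE7b.c4 TabE7b.ok4 TabE7b.dvd4
  have mS : Fintype.card K ^ 63 ∈ charDegrees ↥(chevE7.group K) := by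
    refine split_st hpE7 K (d := Nat.gcd 2 (Fintype.card K - 1)) (L := [2, 6, 8, 10, 12, 14, 18])
      (Nat.gcd_dvd_right _ _) (by simp) ?_
    rw [Cfsg.Agent.S1064.result rfl]
    simp only [H35.PoinNum.pr_cons, H35.PoinNum.pr_nil]
    ring
  rw [← hx] at m1 m2 m3 m4 m5 mS
  have i1 := isVal TabE7a.ok1 TabE7a.dvd1 h2
  have i2 := isVal TabE7a.ok2 TabE7a.dvd2 h2
  have i3 := isVal TabE7a.ok3 TabE7a.dvd3 h2
  have i4 := isVal TabE7b.ok3 TabE7b.dvd3 h2
  have i5 := isVal TabE7b.ok4 TabE7b.dvd4 h2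
  have iS := Is.xpow x 63
  have l1 := lt_of_ltP h2 (Is.one x) i1 (by decide +kernel)
  have l2 := lt_of_ltP h2 i1 i2 (by decide +kernel)
  have l3 := lt_of_ltP h2 i2 i3 (by decide +kernel)
  have l4 := lt_of_ltP h2 i3 i4 (by decide +kernel)
  have l5 := lt_of_ltP h2 i4 i5 (by decide +kernel)
  have l6 := lt_of_ltP h2 ((i1.pow 1).mul i5) iS (by decide +kernel)
  generalize val TabE7a.c1.den TabE7a.c1.dn x = a1 at *
  generalize val TabE7a.c2.den TabE7a.c2.dn x = a2 at *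
  generalize val TabE7a.c3.den TabE7a.c3.dn x = a3 at *
  generalize val TabE7b.c3.den TabE7b.c3.dn x = a4 at *
  generalize val TabE7b.c4.den TabE7b.c4.dn x = a5 at *
  refine length_add_le (Small.of_mem m1 l1) (by omega) [1, a1, a2, a3, a4, a5] (X := a5) 1 ?_ ?_ (by omega) ?_ mS l6
  · simp only [List.mem_cons, List.not_mem_nil, or_false]
    rintro y (rfl | rfl | rfl | rfl | rfl | rfl)
    exacts [one_mem, m1, m2, m3, m4, m5]
  · simp only [List.pairwise_cons, List.mem_cons, List.not_mem_nil, or_false, forall_eq_or_imp, forall_eq,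
      false_imp_iff, implies_true, List.Pairwise.nil, and_true]
    omega
  · simp only [List.mem_cons, List.not_mem_nil, or_false, forall_eq_or_imp, forall_eq]
    omega

/-! ### `E₈` -/

theorem hA_E8a : cartanOf chevE8 8 = TabE8a.A := by
  funext i k
  revert i k
  decide +kernel

/-- **`E₈(q)` has at least eight character degrees.** -/
theorem eight_E8' (K : Type u) [Field K] [Fintype K] [IsSimpleGroup ↥(chevE8.group K)] :
    8 ≤ (charDegrees ↥(chevE8.group K)).ncard := by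
  obtain ⟨x, hx⟩ : ∃ x, x = Fintype.card K := ⟨_, rfl⟩
  have h2 : 2 ≤ x := hx ▸ two_le_card K
  have m1 := split_mem hpE8 K hA_E8a TabE8a.data (by decide +kernel) TabE8a.c1 TabE8a.ok1 TabE8a.dvd1
  have m2 := split_mem hpE8 K hA_E8a TabE8a.data (by decide +kernel) TabE8a.c2 TabE8a.ok2 TabE8a.dvd2
  have m3 := split_mem hpE8 K hA_E8a TabE8a.data (by decide +kernel) TabE8a.c3 TabE8a.ok3 TabE8a.dvd3
  have m4 := split_mem hpE8 K hA_E8a TabE8a.data (by decide +kernel) TabE8a.c4 TabE8a.ok4 TabE8a.dvd4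
  have mS : Fintype.card K ^ 120 ∈ charDegrees ↥(chevE8.group K) := by
    refine split_st hpE8 K (d := 1) (L := [2, 8, 12, 14, 18, 20, 24, 30]) (one_dvd _) (by simp) ?_
    rw [one_mul, Cfsg.Agent.S1065.result rfl]
    simp only [H35.PoinNum.pr_cons, H35.PoinNum.pr_nil]
    ring
  rw [← hx] at m1 m2 m3 m4 mS
  have i1 := isVal TabE8a.ok1 TabE8a.dvd1 h2
  have i2 := isVal TabE8a.ok2 TabE8a.dvd2 h2
  have i3 := isVal TabE8a.ok3 TabE8a.dvd3 h2
  have i4 := isVal TabE8a.ok4 TabE8a.dvd4 h2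
  have iS := Is.xpow x 120
  have l1 := lt_of_ltP h2 (Is.one x) i1 (by decide +kernel)
  have l2 := lt_of_ltP h2 i1 i2 (by decide +kernel)
  have l3 := lt_of_ltP h2 i2 i3 (by decide +kernel)
  have l4 := lt_of_ltP h2 i3 i4 (by decide +kernel)
  have l5 := lt_of_ltP h2 ((i1.pow 2).mul i4) iS (by decide +kernel)
  generalize val TabE8a.c1.den TabE8a.c1.dn x = a1 at *
  generalize val TabE8a.c2.den TabE8a.c2.dn x = a2 at *
  generalize val TabE8a.c3.den TabE8a.c3.dn x = a3 at *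
  generalize val TabE8a.c4.den TabE8a.c4.dn x = a4 at *
  refine length_add_le (Small.of_mem m1 l1) (by omega) [1, a1, a2, a3, a4] (X := a4) 2 ?_ ?_ (by omega) ?_ mS l5
  · simp only [List.mem_cons, List.not_mem_nil, or_false]
    rintro y (rfl | rfl | rfl | rfl | rfl)
    exacts [one_mem, m1, m2, m3, m4]
  · simp only [List.pairwise_cons, List.mem_cons, List.not_mem_nil, or_false, forall_eq_or_imp, forall_eq,
      false_imp_iff, implies_true, List.Pairwise.nil, and_true]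
    omega
  · simp only [List.mem_cons, List.not_mem_nil, or_false, forall_eq_or_imp, forall_eq]
    omega

/-! ### the rows -/

theorem eight_F4 {S : Type*} [Group S] (h : Lie.IsoF4 S) : 8 ≤ (charDegrees S).ncard := by
  obtain ⟨K, _, _, ⟨e⟩⟩ := h
  rw [ncard_congr e]
  exact eight_F4' K

theorem eight_E6 {S : Type*} [Group S] [IsSimpleGroup S] (h : Lie.IsoChevE6 S) : 8 ≤ (charDegrees S).ncard := by
  obtain ⟨K, _, _, ⟨e⟩⟩ := h
  have : Nontrivial ↥(chevE6.group K) := e.toEquiv.symm.nontrivial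
  have : IsSimpleGroup ↥(chevE6.group K) := IsSimpleGroup.isSimpleGroup_of_surjective e.toMonoidHom e.surjective
  rw [ncard_congr e]
  exact eight_E6' K

theorem eight_E7 {S : Type*} [Group S] [IsSimpleGroup S] (h : Lie.IsoE7 S) : 8 ≤ (charDegrees S).ncard := by
  obtain ⟨K, _, _, ⟨e⟩⟩ := h
  have : Nontrivial ↥(chevE7.group K) := e.toEquiv.symm.nontrivial
  have : IsSimpleGroup ↥(chevE7.group K) := IsSimpleGroup.isSimpleGroup_of_surjective e.toMonoidHom e.surjective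
  rw [ncard_congr e]
  exact eight_E7' K

theorem eight_E8 {S : Type*} [Group S] [IsSimpleGroup S] (h : Lie.IsoE8 S) : 8 ≤ (charDegrees S).ncard := by
  obtain ⟨K, _, _, ⟨e⟩⟩ := h
  have : Nontrivial ↥(chevE8.group K) := e.toEquiv.symm.nontrivial
  have : IsSimpleGroup ↥(chevE8.group K) := IsSimpleGroup.isSimpleGroup_of_surjective e.toMonoidHom e.surjective
  rw [ncard_congr e]
  exact eight_E8' K

end Cfsg.Agent.H996.Eight.Rows
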