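import Cfsg.Agent.H967.Sph.Main

/-!
# The spherical machine with the averaging operator (helper996, for S4899)

As `H967.Sph.exists_char`; the operator is the average of `T_j` over the parabolic subgroup `P` of the nodes `≠ j`. On the
functions of the class of the state it is given by the sums `∑_{s ∈ c} wt s * (T_j φ) s`; no words are needed.
-/

set_option autoImplicit false

namespace Cfsg.Agent.H996.Eight.Av

open Cfsg.Agent.H967.Sph
open CoxeterSystem Cfsg.Agent.ChevalleyStructure.CoxeterGeom Cfsg.Agent.Tits.Roots Cfsg.Agent.Tits.Core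
  Cfsg.Agent.Nodes.Reps Cfsg.Agent.Nodes.BNOf Cfsg.Agent.Nodes.Bruhat Cfsg.Agent.Nodes.LeviDec

universe u

variable {I W : Type*} {Y : Type u} [Fintype I] [DecidableEq I] [Group W] [Finite W] [Group Y] [Finite Y]
    {M : CoxeterMatrix I} {cs : CoxeterSystem M W} {A : I → I → ℤ} {h : IsCartan M A} {p : ℕ} {T : Subgroup Y}
    {n : I → Y} {X : (I → ℤ) → Subgroup Y} (R : RGD cs h p T n X) (hG : GG cs h T X = ⊤)
    {j : I} {N m : ℕ} (t : Tab A j N m) (q : I → ℕ) (hq : ∀ i, Nat.card (X (sr i)) = q i)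

include hq in
/-- the average over `P` of a function of the state -/
theorem sum_P [Fintype Y] [Fintype (PJ cs h T X {i | i ≠ j})]
    (wt : Fin N → ℕ) (hw : wt t.o = 1) (hws : ∀ i s, 0 < t.vec s i → wt (t.st i s) = q i * wt s)
    (φ : Fin N → ℚ) (g : Y) :
    (∑ p : PJ cs h T X {i | i ≠ j}, φ (stY R hG t (g * p))) *
        ∑ s, (if t.cls s = t.cls (stY R hG t g) then (wt s : ℚ) else 0) =
      Fintype.card (PJ cs h T X {i | i ≠ j}) *
        ∑ s, (if t.cls s = t.cls (stY R hG t g) then wt s * φ s else 0) := by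
  classical
  obtain ⟨b, hb⟩ := exists_fun R hG t
    (fun g => ∑ p : PJ cs h T X {i | i ≠ j}, φ (stY R hG t (g * p)))
    (fun y hy g => Finset.sum_congr rfl fun p _ => by rw [mul_assoc, stY_mul_left R hG t hy])
    (fun y hy g => by
      rw [← Equiv.sum_comp (Equiv.mulLeft (⟨y, hy⟩ : PJ cs h T X {i | i ≠ j}))
        (fun p : PJ cs h T X {i | i ≠ j} => φ (stY R hG t (g * p)))]
      refine Finset.sum_congr rfl fun p _ => ?_
      rw [Equiv.coe_mulLeft, Subgroup.coe_mul, mul_assoc])
  obtain ⟨c, hc⟩ : ∃ c, c = t.cls (stY R hG t g) := ⟨_, rfl⟩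
  rw [← hc]
  have hbg := hb g
  beta_reduce at hbg
  rw [hbg, ← hc]
  -- two computations of a sum
  have h1 : ∑ y : Y, ∑ p : PJ cs h T X {i | i ≠ j},
      (fun s => if t.cls s = c then φ s else 0) (stY R hG t (y * p)) =
      ∑ y : Y, (fun s => if t.cls s = c then b c else 0) (stY R hG t y) := by
    refine Finset.sum_congr rfl fun y _ => ?_
    beta_reduce
    have h2 : ∀ p : PJ cs h T X {i | i ≠ j},
        (if t.cls (stY R hG t (y * p)) = c then φ (stY R hG t (y * p)) else 0) =
        if t.cls (stY R hG t y) = c then φ (stY R hG t (y * p)) else 0 := fun p => by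
      rw [cls_mul_right R hG t p.2]
    rw [Finset.sum_congr rfl fun p _ => h2 p]
    split_ifs with h3
    · rw [← h3]
      exact hb y
    · exact Finset.sum_const_zero
  rw [Finset.sum_comm] at h1
  have h2 : ∀ p : PJ cs h T X {i | i ≠ j},
      ∑ y : Y, (fun s => if t.cls s = c then φ s else 0) (stY R hG t (y * p)) =
      ∑ y : Y, (fun s => if t.cls s = c then φ s else 0) (stY R hG t y) := fun p => by
    rw [← Equiv.sum_comp (Equiv.mulRight (p : Y))
      (fun y : Y => (fun s => if t.cls s = c then φ s else 0) (stY R hG t y))]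
    rfl
  rw [Finset.sum_congr rfl fun p _ => h2 p, Finset.sum_const, Finset.card_univ, nsmul_eq_mul,
    sum_stY R hG t (fun s => if t.cls s = c then φ s else 0), sum_stY R hG t (fun s => if t.cls s = c then b c else 0)]
    at h1
  have hc0 : cnt R hG t t.o ≠ 0 := by
    rw [cnt_o]
    exact Nat.cast_ne_zero.2 Nat.card_pos.ne'
  have h3 : ∀ f : Fin N → ℚ, ∑ s, f s * cnt R hG t s = (∑ s, f s * wt s) * cnt R hG t t.o := fun f => by
    rw [Finset.sum_mul]
    refine Finset.sum_congr rfl fun s _ => ?_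
    rw [cnt_eq R hG t q hq wt hw hws s, mul_assoc]
  rw [h3, h3, ← mul_assoc] at h1
  have h4 := mul_right_cancel₀ hc0 h1
  have e1 : ∑ s, (if t.cls s = c then b c else 0) * (wt s : ℚ) =
      b c * ∑ s, (if t.cls s = c then (wt s : ℚ) else 0) := by
    rw [Finset.mul_sum]
    refine Finset.sum_congr rfl fun s _ => ?_
    split_ifs
    · rfl
    · rw [zero_mul, mul_zero]
  have e2 : ∑ s, (if t.cls s = c then φ s else 0) * (wt s : ℚ) =
      ∑ s, (if t.cls s = c then wt s * φ s else 0) := by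
    refine Finset.sum_congr rfl fun s _ => ?_
    split_ifs
    · rw [mul_comm]
    · rw [zero_mul]
  rw [e1, e2] at h4
  exact h4.symm

include R hG hq in
/-- **Spherical machine, averaging operator.** -/
theorem exists_char_av (θ : ℚ) (a : Fin m → ℚ) (ha : a (t.cls t.o) = 1)
    (wt : Fin N → ℕ) (hw : wt t.o = 1) (hws : ∀ i s, 0 < t.vec s i → wt (t.st i s) = q i * wt s)
    (he : ∀ c, ∑ s, (if t.cls s = c then wt s * t.tau q j (fun u => a (t.cls u)) s else 0) =
      θ * (∑ s, if t.cls s = c then (wt s : ℚ) else 0) * a c)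
    (hu : ∀ b : Fin m → ℚ, (∀ c, ∑ s, (if t.cls s = c then wt s * t.tau q j (fun u => b (t.cls u)) s else 0) =
      θ * (∑ s, if t.cls s = c then (wt s : ℚ) else 0) * b c) → ∀ c, b c = b (t.cls t.o) * a c)
    (d : ℕ) (hd : (d : ℚ) * ∑ s, (wt s : ℚ) * a (t.cls s) ^ 2 = ∑ s, (wt s : ℚ)) :
    ∃ χ : Y → ℂ, Cfsg.IsIrrCharacter Y χ ∧ (∀ g, ∃ r : ℚ, χ g = r) ∧ χ 1 = d := by
  classical
  have := Fintype.ofFinite Y
  have := Fintype.ofFinite (Y ⧸ PJ cs h T X {i | i ≠ j})
  have := Fintype.ofFinite (PJ cs h T X {i | i ≠ j})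
  have hcP : (Fintype.card (PJ cs h T X {i | i ≠ j}) : ℚ) ≠ 0 := Nat.cast_ne_zero.2 Fintype.card_ne_zero
  -- the space
  let pull : (Y ⧸ PJ cs h T X {i | i ≠ j} → ℚ) →ₗ[ℚ] (Y → ℚ) :=
    LinearMap.funLeft ℚ ℚ (fun g : Y => (g : Y ⧸ PJ cs h T X {i | i ≠ j}))
  have hpull : ∀ f g, pull f g = f (g : Y ⧸ PJ cs h T X {i | i ≠ j}) := fun _ _ => rfl
  let av : (Y → ℚ) →ₗ[ℚ] (Y → ℚ) :=
    { toFun := fun F g => ∑ p : PJ cs h T X {i | i ≠ j}, F (g * p)
      map_add' := fun F F' => by
        funext g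
        exact Finset.sum_add_distrib
      map_smul' := fun c F => by
        funext g
        rw [RingHom.id_apply, Pi.smul_apply, smul_eq_mul, Finset.mul_sum]
        rfl }
  have hav : ∀ F g, av F g = ∑ p : PJ cs h T X {i | i ≠ j}, F (g * p) := fun _ _ => rfl
  let V : Submodule ℚ (Y ⧸ PJ cs h T X {i | i ≠ j} → ℚ) := LinearMap.ker ((av ∘ₗ opT X n j -
    ((Fintype.card (PJ cs h T X {i | i ≠ j}) : ℚ) * θ) • LinearMap.id) ∘ₗ pull)
  have hV : ∀ f, f ∈ V ↔ ∀ g, ∑ p : PJ cs h T X {i | i ≠ j}, opT X n j (pull f) (g * p) =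
      (Fintype.card (PJ cs h T X {i | i ≠ j}) : ℚ) * θ * f (g : Y ⧸ PJ cs h T X {i | i ≠ j}) := by
    intro f
    rw [LinearMap.mem_ker, LinearMap.comp_apply, LinearMap.sub_apply, sub_eq_zero, funext_iff]
    rfl
  have hK0 : ∀ g : Y, (∑ s, if t.cls s = t.cls (stY R hG t g) then (wt s : ℚ) else 0) ≠ 0 := fun g => by
    have h0 : ∀ s, (wt s : ℚ) = cnt R hG t s / cnt R hG t t.o := fun s => by
      have hc0 : cnt R hG t t.o ≠ 0 := by
        rw [cnt_o]
        exact Nat.cast_ne_zero.2 Nat.card_pos.ne'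
      rw [cnt_eq R hG t q hq wt hw hws s, mul_div_assoc, div_self hc0, mul_one]
    have h1 : 0 < wt (stY R hG t g) := by
      have h2 : cnt R hG t (stY R hG t g) ≠ 0 := by
        have h3 : (0 : ℚ) < cnt R hG t (stY R hG t g) := by
          rw [cnt]
          refine Finset.sum_pos' (fun x _ => ?_) ⟨g, Finset.mem_univ _, by rw [Pi.single_eq_same]; exact one_pos⟩
          by_cases h4 : stY R hG t x = stY R hG t g
          · rw [h4, Pi.single_eq_same]; exact zero_le_one
          · rw [Pi.single_eq_of_ne h4]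
        exact h3.ne'
      rcases Nat.eq_zero_or_pos (wt (stY R hG t g)) with h3 | h3
      · rw [cnt_eq R hG t q hq wt hw hws, h3, Nat.cast_zero, zero_mul] at h2
        exact absurd rfl h2
      · exact h3
    refine ne_of_gt (Finset.sum_pos' (fun x _ => ?_) ⟨stY R hG t g, Finset.mem_univ _, by
      rw [if_pos rfl]; exact_mod_cast h1⟩)
    split_ifs
    · exact Nat.cast_nonneg _
    · exact le_rfl
  -- the eigenvalue condition
  have hcond : ∀ (b : Fin m → ℚ) (f : Y ⧸ PJ cs h T X {i | i ≠ j} → ℚ)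
      (hf : ∀ g : Y, f g = b (t.cls (stY R hG t g))) (g : Y),
      (∑ p : PJ cs h T X {i | i ≠ j}, opT X n j (pull f) (g * p) =
        (Fintype.card (PJ cs h T X {i | i ≠ j}) : ℚ) * θ * f (g : Y ⧸ PJ cs h T X {i | i ≠ j})) ↔
      ∑ s, (if t.cls s = t.cls (stY R hG t g) then wt s * t.tau q j (fun u => b (t.cls u)) s else 0) =
        θ * (∑ s, if t.cls s = t.cls (stY R hG t g) then (wt s : ℚ) else 0) * b (t.cls (stY R hG t g)) := by
    intro b f hf g
    have h1 : pull f = fun g => (fun u => b (t.cls u)) (stY R hG t g) := funext hf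
    have h2 := sum_P R hG t q hq wt hw hws (t.tau q j (fun u => b (t.cls u))) g
    rw [h1, opT_stY R hG t q hq j (fun u => b (t.cls u)), hf g]
    beta_reduce
    constructor
    · intro h3
      rw [h3] at h2
      have h4 : (Fintype.card (PJ cs h T X {i | i ≠ j}) : ℚ) *
          (θ * (∑ s, if t.cls s = t.cls (stY R hG t g) then (wt s : ℚ) else 0) * b (t.cls (stY R hG t g))) =
          (Fintype.card (PJ cs h T X {i | i ≠ j}) : ℚ) *
          ∑ s, (if t.cls s = t.cls (stY R hG t g) then wt s * t.tau q j (fun u => b (t.cls u)) s else 0) := by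
        rw [← h2]
        ring
      exact (mul_left_cancel₀ hcP h4).symm
    · intro h3
      rw [h3] at h2
      refine mul_right_cancel₀ (hK0 g) ?_
      rw [h2]
      ring
  -- the spherical function
  let e₀ : Y ⧸ PJ cs h T X {i | i ≠ j} → ℚ := fun x => Quotient.liftOn' x (fun g => a (t.cls (stY R hG t g))) (by
    intro g g' hgg
    have h1 : g⁻¹ * g' ∈ PJ cs h T X {i | i ≠ j} := QuotientGroup.leftRel_apply.1 hgg
    have h2 := cls_mul_right R hG t h1 g
    rw [mul_inv_cancel_left] at h2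
    rw [h2])
  have he₀ : ∀ g : Y, e₀ g = a (t.cls (stY R hG t g)) := fun _ => rfl
  have hbase : t.cls (stY R hG t 1) = t.cls t.o := by
    rw [(stY_eq_o_iff R hG t).2 (one_mem _)]
  refine exists_of_spherical (X := Y ⧸ PJ cs h T X {i | i ≠ j}) ?_ V ?_ (PJ cs h T X {i | i ≠ j})
    ((1 : Y) : Y ⧸ PJ cs h T X {i | i ≠ j}) ?_ e₀ ?_ ?_ ?_ ?_ d ?_
  · intro x y
    exact MulAction.exists_smul_eq Y x y
  · intro y f hf
    rw [hV] at hf ⊢
    intro g
    have h1 : pull (fun x => f (y • x)) = fun g => pull f (y * g) := rfl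
    rw [h1, opT_left]
    have h2 := hf (y * g)
    simp only [mul_assoc] at h2 ⊢
    exact h2
  · intro f _ y hy
    congr 1
    exact QuotientGroup.eq.2 (by simpa using inv_mem hy)
  · rw [hV]
    intro g
    exact (hcond a e₀ he₀ g).2 (he _)
  · intro y hy x
    induction x using Quotient.inductionOn' with
    | h g =>
      show e₀ ((y * g : Y) : Y ⧸ PJ cs h T X {i | i ≠ j}) = e₀ (g : Y ⧸ PJ cs h T X {i | i ≠ j})
      rw [he₀, he₀, stY_mul_left R hG t hy]
  · rw [he₀, hbase, ha]
  · intro f hf hinv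
    obtain ⟨b, hb⟩ := exists_fun R hG t (pull f)
      (fun y hy g => hinv y hy (g : Y ⧸ PJ cs h T X {i | i ≠ j}))
      (fun y hy g => by
        rw [hpull, hpull]
        congr 1
        exact QuotientGroup.eq.2 (by simpa using hy))
    have h1 : ∀ c, ∑ s, (if t.cls s = c then wt s * t.tau q j (fun u => b (t.cls u)) s else 0) =
        θ * (∑ s, if t.cls s = c then (wt s : ℚ) else 0) * b c := by
      intro c
      by_cases hc : ∃ s, t.cls s = c
      · obtain ⟨s, hs⟩ := hc
        obtain ⟨w, hw'⟩ := t.exists_sw cs h s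
        obtain ⟨k, hk⟩ := exists_rp cs R.nsys w
        have h2 : stY R hG t k = s := by rw [stY_eq R hG t (cell_of_rp hk), hw']
        have h3 := (hcond b f hb k).1 ((hV f).1 hf k)
        rw [h2, hs] at h3
        exact h3
      · push Not at hc
        rw [Finset.sum_congr rfl fun s _ => if_neg (hc s), Finset.sum_congr rfl fun s _ => if_neg (hc s)]
        simp
    refine ⟨b (t.cls t.o), funext fun x => ?_⟩
    induction x using Quotient.inductionOn' with
    | h g =>
      show pull f g = b (t.cls t.o) * e₀ (g : Y ⧸ PJ cs h T X {i | i ≠ j})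
      rw [hb, he₀, hu b h1]
  · rw [sum_quot R hG t q hq wt hw hws (fun s => a (t.cls s) ^ 2) (fun x => e₀ x ^ 2) (fun g => by rw [he₀]), hd]
    have h1 := sum_quot R hG t q hq wt hw hws (fun _ => 1) (fun _ => 1) (fun _ => rfl)
    rw [Finset.sum_const, Finset.card_univ, nsmul_eq_mul, mul_one] at h1
    rw [h1]
    exact Finset.sum_congr rfl fun s _ => by rw [mul_one]

end Cfsg.Agent.H996.Eight.Av
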