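import Cfsg.Agent.H996.Eight.Av
import Cfsg.Agent.H64.Dl.SphP

/-!
# Certificates for the spherical machine (helper996, for S4899)

`Crt m`: an eigenvalue `tn / td`, the values `nu c / nu o` of the spherical function, a proof that the eigenspace is
one-dimensional (`steps`) and the degree `dn / den`, all polynomials in `x`. `exists_deg`: a certificate which passes the
computable test gives an irreducible character of degree `dn / den` for all `x ≥ 2`.
-/

set_option autoImplicit false

namespace Cfsg.Agent.H996.Eight.Cert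

open Cfsg.Agent.H967.Sph Cfsg.Agent.H64.Dl.Sph

/-! ### polynomials -/

/-- product with a constant -/
def pScale (c : ℤ) : List ℤ → List ℤ
  | [] => []
  | a :: p => (c * a) :: pScale c p

/-- product -/
def pMul : List ℤ → List ℤ → List ℤ
  | [], _ => []
  | a :: p, q => if a = 0 then 0 :: pMul p q else pAdd (pScale a q) (0 :: pMul p q)

/-- `c + (2 + y) * r` -/
def mx : ℤ → List ℤ → List ℤ
  | c, [] => [c]
  | c, b :: r => (c + 2 * b) :: mx b r

/-- `p (2 + y)` -/
def pTwo : List ℤ → List ℤ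
  | [] => []
  | a :: p => mx a (pTwo p)

/-- all coefficients are `≥ 0` -/
def pNN : List ℤ → Bool
  | [] => true
  | a :: p => decide (0 ≤ a) && pNN p

/-- the polynomial is positive for `x ≥ 2` -/
def pPos (p : List ℤ) : Bool :=
  match pTwo p with
  | [] => false
  | a :: r => decide (0 < a) && pNN r

/-- the polynomial does not vanish for `x ≥ 2` -/
def pNV (p : List ℤ) : Bool := pPos p || pPos (pNeg p)

variable (x : ℚ)

theorem ev_pScale (c : ℤ) : ∀ p : List ℤ, ev x (pScale c p) = c * ev x p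
  | [] => by rw [pScale, ev_nil, mul_zero]
  | a :: p => by
    rw [pScale, ev_cons, ev_cons, ev_pScale c p]
    push_cast
    ring

theorem ev_pMul : ∀ p q : List ℤ, ev x (pMul p q) = ev x p * ev x q
  | [], q => by rw [pMul, ev_nil, zero_mul]
  | a :: p, q => by
    rw [pMul]
    split_ifs with h
    · rw [ev_cons, ev_cons, ev_pMul p q, h]
      push_cast
      ring
    · rw [ev_pAdd, ev_pScale, ev_cons, ev_cons, ev_pMul p q]
      push_cast
      ring

theorem ev_mx (y : ℚ) : ∀ (c : ℤ) (r : List ℤ), ev y (mx c r) = c + (2 + y) * ev y r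
  | c, [] => by rw [mx, ev_cons, ev_nil, mul_zero, mul_zero]
  | c, b :: r => by
    rw [mx, ev_cons, ev_cons, ev_mx y b r]
    push_cast
    ring

theorem ev_pTwo (y : ℚ) : ∀ p : List ℤ, ev y (pTwo p) = ev (2 + y) p
  | [] => rfl
  | a :: p => by rw [pTwo, ev_mx, ev_cons, ev_pTwo y p]

theorem ev_pNN {y : ℚ} (hy : 0 ≤ y) : ∀ p : List ℤ, pNN p = true → 0 ≤ ev y p
  | [], _ => le_rfl
  | a :: p, h => by
    rw [pNN, Bool.and_eq_true, decide_eq_true_eq] at h
    rw [ev_cons]
    have h1 : (0 : ℚ) ≤ a := by exact_mod_cast h.1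
    have h2 := ev_pNN hy p h.2
    positivity

variable {x}

theorem ev_pos (hx : 2 ≤ x) {p : List ℤ} (h : pPos p = true) : 0 < ev x p := by
  obtain ⟨y, rfl⟩ : ∃ y, x = 2 + y := ⟨x - 2, by ring⟩
  have hy : 0 ≤ y := by linarith
  rw [← ev_pTwo]
  unfold pPos at h
  generalize pTwo p = r at h
  cases r with
  | nil => exact absurd h (by simp)
  | cons a r =>
    simp only [Bool.and_eq_true, decide_eq_true_eq] at h
    rw [ev_cons]
    have h1 : (0 : ℚ) < a := by exact_mod_cast h.1
    have h2 := ev_pNN hy r h.2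
    positivity

theorem ev_nv (hx : 2 ≤ x) {p : List ℤ} (h : pNV p = true) : ev x p ≠ 0 := by
  unfold pNV at h
  rw [Bool.or_eq_true] at h
  rcases h with h | h
  · exact (ev_pos hx h).ne'
  · have := ev_pos hx h
    rw [ev_pNeg] at this
    intro h0
    rw [h0, neg_zero] at this
    exact lt_irrefl _ this

/-- sum of polynomials -/
def pSum {m : ℕ} (f : Fin m → List ℤ) : List ℤ := (List.finRange m).foldr (fun c p => pAdd (f c) p) []

theorem ev_pSum (x : ℚ) {m : ℕ} (f : Fin m → List ℤ) : ev x (pSum f) = ∑ c, ev x (f c) := by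
  have key : ∀ l : List (Fin m), ev x (l.foldr (fun c p => pAdd (f c) p) []) = (l.map fun c => ev x (f c)).sum := by
    intro l
    induction l with
    | nil => rfl
    | cons c l ih => rw [List.foldr_cons, List.map_cons, List.sum_cons, ev_pAdd, ih]
  rw [pSum, key, ← List.sum_ofFn, List.ofFn_eq_map]

/-! ### the matrix of the averaging operator -/

section Mat

variable {I : Type*} [DecidableEq I] {A : I → I → ℤ} {j : I} {N m : ℕ} (t : Tab A j N m)

/-- the coefficients of `x ^ wl s * (T_j φ) s` in the values of `φ` on the classes -/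
def ctr (e : I → ℕ) (wl : Fin N → ℕ) (s : Fin N) (c' : Fin m) : List ℤ :=
  if t.vec s j < 0 then
    pAdd (if t.cls (t.st j s) = c' then pShift (wl s) [1] else [])
      (if t.cls s = c' then pShift (wl s) (pAdd (pShift (e j) [1]) [-1]) else [])
  else if t.cls (t.st j s) = c' then pShift (wl s + e j) [1] else []

/-- `Mat` is the matrix of the sums over the classes -/
def ChkM (e : I → ℕ) (wl : Fin N → ℕ) (Mat : Fin m → Fin m → List ℤ) : Prop :=
  ∀ c c' : Fin m, pEq ((List.finRange N).foldr (fun s p => if t.cls s = c then pAdd (ctr t e wl s c') p else p) [])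
    (Mat c c') = true

instance (e : I → ℕ) (wl : Fin N → ℕ) (Mat : Fin m → Fin m → List ℤ) : Decidable (ChkM t e wl Mat) := by
  unfold ChkM; infer_instance

variable {t}

theorem ev_ctr (x : ℕ) (e : I → ℕ) (wl : Fin N → ℕ) (s : Fin N) (a : Fin m → ℚ) :
    ∑ c', ev x (ctr t e wl s c') * a c' =
      ((x ^ wl s : ℕ) : ℚ) * t.tau (fun i => x ^ e i) j (fun u => a (t.cls u)) s := by
  unfold ctr Tab.tau
  split_ifs with h
  · have h1 : ∀ c', ev (x : ℚ) (pAdd (if t.cls (t.st j s) = c' then pShift (wl s) [1] else [])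
        (if t.cls s = c' then pShift (wl s) (pAdd (pShift (e j) [1]) [-1]) else [])) * a c' =
        (if t.cls (t.st j s) = c' then (x : ℚ) ^ wl s * a c' else 0) +
        (if t.cls s = c' then (x : ℚ) ^ wl s * ((x : ℚ) ^ e j - 1) * a c' else 0) := by
      intro c'
      rw [ev_pAdd, add_mul]
      congr 1
      · split_ifs
        · rw [ev_pShift, ev_cons, ev_nil]
          push_cast
          ring
        · rw [ev_nil, zero_mul]
      · split_ifs
        · rw [ev_pShift, ev_pAdd, ev_pShift, ev_cons, ev_nil, ev_cons, ev_nil]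
          push_cast
          ring
        · rw [ev_nil, zero_mul]
    rw [Finset.sum_congr rfl fun c' _ => h1 c', Finset.sum_add_distrib, Finset.sum_ite_eq, Finset.sum_ite_eq,
      if_pos (Finset.mem_univ _), if_pos (Finset.mem_univ _)]
    push_cast
    ring
  · have h1 : ∀ c', ev (x : ℚ) (if t.cls (t.st j s) = c' then pShift (wl s + e j) [1] else []) * a c' =
        (if t.cls (t.st j s) = c' then (x : ℚ) ^ (wl s + e j) * a c' else 0) := by
      intro c'
      split_ifs
      · rw [ev_pShift, ev_cons, ev_nil]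
        push_cast
        ring
      · rw [ev_nil, zero_mul]
    rw [Finset.sum_congr rfl fun c' _ => h1 c', Finset.sum_ite_eq, if_pos (Finset.mem_univ _)]
    push_cast
    rw [pow_add]
    ring

theorem ChkM.spec {e : I → ℕ} {wl : Fin N → ℕ} {Mat : Fin m → Fin m → List ℤ} (h : ChkM t e wl Mat) (x : ℕ)
    (a : Fin m → ℚ) (c : Fin m) :
    ∑ s, (if t.cls s = c then ((x ^ wl s : ℕ) : ℚ) * t.tau (fun i => x ^ e i) j (fun u => a (t.cls u)) s else 0) =
      ∑ c', ev x (Mat c c') * a c' := by
  have key : ∀ (c' : Fin m) (l : List (Fin N)),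
      ev (x : ℚ) (l.foldr (fun s p => if t.cls s = c then pAdd (ctr t e wl s c') p else p) []) =
      (l.map fun s => if t.cls s = c then ev (x : ℚ) (ctr t e wl s c') else 0).sum := by
    intro c' l
    induction l with
    | nil => rfl
    | cons s l ih =>
      rw [List.foldr_cons, List.map_cons, List.sum_cons]
      split_ifs with h1
      · rw [ev_pAdd, ih]
      · rw [ih, zero_add]
  have h2 : ∀ c', ev (x : ℚ) (Mat c c') = ∑ s, (if t.cls s = c then ev (x : ℚ) (ctr t e wl s c') else 0) := by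
    intro c'
    rw [← ev_of_pEq (x : ℚ) (h c c'), key, ← List.sum_ofFn, List.ofFn_eq_map]
  have h3 : ∀ c', ev (x : ℚ) (Mat c c') * a c' =
      ∑ s, (if t.cls s = c then ev (x : ℚ) (ctr t e wl s c') else 0) * a c' := fun c' => by
    rw [h2 c', Finset.sum_mul]
  rw [Finset.sum_congr rfl fun c' _ => h3 c', Finset.sum_comm]
  refine Finset.sum_congr rfl fun s _ => ?_
  split_ifs with h3
  · exact (ev_ctr x e wl s a).symm
  · simp

end Mat

/-! ### certificates -/

/-- a certificate: eigenvalue, spherical function, one-dimensionality, degree -/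
structure Crt (m : ℕ) where
  th : List ℤ
  nu : Fin m → List ℤ
  steps : List (Fin m × List (Fin m × List ℤ))
  dn : List ℤ
  den : ℕ

variable {m : ℕ}

/-- combination of rows -/
def comb (mp : Fin m → Fin m → List ℤ) (ml : List (Fin m × List ℤ)) (c : Fin m) : List ℤ :=
  ml.foldr (fun r p => pAdd (pMul r.2 (mp r.1 c)) p) []

/-- the test for one-dimensionality -/
def chkU (mp : Fin m → Fin m → List ℤ) : List (Fin m) → List (Fin m × List (Fin m × List ℤ)) → Bool
  | known, [] => decide (∀ c : Fin m, c ∈ known)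
  | known, s :: rest =>
    (decide (∀ c : Fin m, c ∈ known ∨ (if c = s.1 then pNV (comb mp s.2 c) else pZero (comb mp s.2 c)) = true)) &&
      chkU mp (s.1 :: known) rest

theorem ev_comb (mp : Fin m → Fin m → List ℤ) (b : Fin m → ℚ)
    (hb : ∀ r, ∑ c, ev x (mp r c) * b c = 0) (ml : List (Fin m × List ℤ)) :
    ∑ c, ev x (comb mp ml c) * b c = 0 := by
  induction ml with
  | nil =>
    refine Finset.sum_eq_zero fun c _ => ?_
    show ev x [] * b c = 0
    rw [ev_nil, zero_mul]
  | cons s ml ih =>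
    have h1 : ∀ c, ev x (comb mp (s :: ml) c) * b c = ev x s.2 * (ev x (mp s.1 c) * b c) + ev x (comb mp ml c) * b c := by
      intro c
      show ev x (pAdd (pMul s.2 (mp s.1 c)) (comb mp ml c)) * b c = _
      rw [ev_pAdd, ev_pMul]
      ring
    rw [Finset.sum_congr rfl fun c _ => h1 c, Finset.sum_add_distrib, ih, ← Finset.mul_sum, hb, mul_zero, add_zero]

theorem zero_of_chkU (hx : 2 ≤ x) (mp : Fin m → Fin m → List ℤ) (b : Fin m → ℚ)
    (hb : ∀ r, ∑ c, ev x (mp r c) * b c = 0) : ∀ (steps : List (Fin m × List (Fin m × List ℤ))) (known : List (Fin m)),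
    (∀ c ∈ known, b c = 0) → chkU mp known steps = true → ∀ c, b c = 0
  | [], known, hk, h => by
    rw [chkU, decide_eq_true_eq] at h
    exact fun c => hk c (h c)
  | s :: rest, known, hk, h => by
    rw [chkU, Bool.and_eq_true, decide_eq_true_eq] at h
    refine zero_of_chkU hx mp b hb rest (s.1 :: known) ?_ h.2
    intro c hc
    rcases List.mem_cons.1 hc with rfl | hc
    · by_cases h0 : s.1 ∈ known
      · exact hk _ h0
      have h1 := ev_comb mp b hb s.2
      rw [Finset.sum_eq_single s.1] at h1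
      · have h2 := (h.1 s.1).resolve_left h0
        rw [if_pos rfl] at h2
        exact (mul_eq_zero.1 h1).resolve_left (ev_nv hx h2)
      · intro c _ hc
        by_cases h3 : c ∈ known
        · rw [hk c h3, mul_zero]
        · have h2 := (h.1 c).resolve_left h3
          rw [if_neg hc] at h2
          rw [ev_of_pZero x _ h2, zero_mul]
      · exact fun h => absurd (Finset.mem_univ _) h
    · exact hk c hc

/-- the matrix minus the eigenvalue -/
def mpOf (th : List ℤ) (B : Fin m → Fin m → List ℤ) (r c : Fin m) : List ℤ :=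
  if r = c then pAdd (B r c) (pNeg th) else B r c

/-- the test -/
def Crt.ok (C : Crt m) (o : Fin m) (B : Fin m → Fin m → List ℤ) (K : Fin m → List ℤ) : Prop :=
  pPos (C.nu o) = true ∧ pPos C.dn = true ∧
  (∀ r, pZero (pSum fun c => pMul (mpOf C.th B r c) (C.nu c)) = true) ∧
  chkU (mpOf C.th B) [o] C.steps = true ∧
  pEq (pMul C.dn (pSum fun c => pMul (K c) (pMul (C.nu c) (C.nu c))))
    (pScale C.den (pMul (pMul (C.nu o) (C.nu o)) (pSum K))) = true ∧
  0 < C.den

instance (C : Crt m) (o : Fin m) (B : Fin m → Fin m → List ℤ) (K : Fin m → List ℤ) : Decidable (C.ok o B K) := by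
  unfold Crt.ok; infer_instance

/-- the values are divisible by `den` -/
def evZ (x : ℤ) : List ℤ → ℤ
  | [] => 0
  | a :: p => a + x * evZ x p

theorem evZ_cast (x : ℤ) : ∀ p : List ℤ, ((evZ x p : ℤ) : ℚ) = ev (x : ℚ) p
  | [] => by rw [evZ, ev_nil, Int.cast_zero]
  | a :: p => by rw [evZ, ev_cons, ← evZ_cast x p]; push_cast; ring

theorem evZ_emod (d x : ℤ) (p : List ℤ) : evZ x p % d = evZ (x % d) p % d := by
  have key : ∀ p : List ℤ, evZ x p ≡ evZ (x % d) p [ZMOD d] := by
    intro p
    induction p with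
    | nil => exact Int.ModEq.refl _
    | cons a p ih =>
      rw [evZ, evZ]
      exact Int.ModEq.add_left a (Int.ModEq.mul (Int.mod_modEq x d).symm ih)
  exact key p

/-- `den` divides all the values -/
def pDvd (den : ℕ) (p : List ℤ) : Prop := ∀ r : Fin den, evZ (r : ℕ) p % den = 0

instance (den : ℕ) (p : List ℤ) : Decidable (pDvd den p) := by unfold pDvd; infer_instance

theorem dvd_of_pDvd {den : ℕ} (hd : 0 < den) {p : List ℤ} (h : pDvd den p) (x : ℕ) : (den : ℤ) ∣ evZ x p := by
  refine Int.dvd_of_emod_eq_zero ?_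
  rw [evZ_emod]
  have h1 := h ⟨x % den, Nat.mod_lt _ hd⟩
  rwa [Int.natCast_mod] at h1

/-- the value `p x / den` -/
def val (den : ℕ) (p : List ℤ) (x : ℕ) : ℕ := (evZ x p / den).toNat

theorem val_spec {den : ℕ} (hd : 0 < den) {p : List ℤ} (h : pDvd den p) (hp : pPos p = true) {x : ℕ} (hx : 2 ≤ x) :
    (den : ℚ) * val den p x = ev x p := by
  have hx' : (2 : ℚ) ≤ (x : ℚ) := by exact_mod_cast hx
  have h1 : (0 : ℤ) < evZ x p := by
    have h2 := ev_pos hx' hp
    have h3 := evZ_cast x p
    push_cast at h3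
    rw [← h3] at h2
    exact_mod_cast h2
  obtain ⟨k, hk⟩ := dvd_of_pDvd hd h x
  have hd' : (0 : ℤ) < den := by exact_mod_cast hd
  have hk0 : 0 ≤ k := by
    rw [hk] at h1
    exact (pos_of_mul_pos_right h1 hd'.le).le
  have h2 : evZ x p / den = k := by rw [hk]; exact Int.mul_ediv_cancel_left _ hd'.ne'
  have h3 : ((val den p x : ℕ) : ℤ) = k := by
    rw [val, h2]
    exact Int.toNat_of_nonneg hk0
  have h4 := evZ_cast x p
  push_cast at h4
  rw [← h4, hk, ← h3]
  push_cast
  ring

open CoxeterSystem Cfsg.Agent.ChevalleyStructure.CoxeterGeom Cfsg.Agent.Tits.Roots Cfsg.Agent.Tits.Core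
  Cfsg.Agent.Nodes.Reps Cfsg.Agent.Nodes.BNOf Cfsg.Agent.Nodes.Bruhat Cfsg.Agent.Nodes.LeviDec

universe u

/-- the data of a table with parameters `x ^ e i` -/
structure Data {I : Type*} [DecidableEq I] (A : I → I → ℤ) (j : I) (N m : ℕ) where
  t : Tab A j N m
  e : I → ℕ
  wl : Fin N → ℕ
  mat : Fin m → Fin m → List ℤ
  kk : Fin m → List ℤ
  ff : List ℤ
  bb : Fin m → Fin m → List ℤ
  chkM : ChkM t e wl mat
  chkK : ChkK t wl kk
  chkF : pPos ff = true
  chkP : ∀ c, pPos (kk c) = true
  chkB : ∀ r c, pEq (pMul (kk r) (bb r c)) (pMul ff (mat r c)) = true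
  wo : wl t.o = 0
  ws : ∀ i s, 0 < t.vec s i → wl (t.st i s) = e i + wl s

/-- **A certificate gives an irreducible character.** -/
theorem exists_deg {I W : Type*} {Y : Type u} [Fintype I] [DecidableEq I] [Group W] [Finite W] [Group Y] [Finite Y]
    {M : CoxeterMatrix I} {cs : CoxeterSystem M W} {A : I → I → ℤ} {h : IsCartan M A} {p : ℕ} {T : Subgroup Y}
    {n : I → Y} {X : (I → ℤ) → Subgroup Y} (R : RGD cs h p T n X) (hG : GG cs h T X = ⊤)
    {j : I} {N m : ℕ} (D : Data A j N m) {x : ℕ} (hx : 2 ≤ x) (hq : ∀ i, Nat.card (X (sr i)) = x ^ D.e i)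
    (C : Crt m) (hC : C.ok (D.t.cls D.t.o) D.bb D.kk) (hD : pDvd C.den C.dn) :
    ∃ χ : Y → ℂ, Cfsg.IsIrrCharacter Y χ ∧ χ 1 = val C.den C.dn x := by
  obtain ⟨o, ho⟩ : ∃ o, o = D.t.cls D.t.o := ⟨_, rfl⟩
  rw [← ho] at hC
  obtain ⟨h3, h4, h5, h6, h7, h8⟩ := hC
  have hx' : (2 : ℚ) ≤ (x : ℚ) := by exact_mod_cast hx
  have htd := ev_pos hx' D.chkF
  have hnu := ev_pos hx' h3
  have hval := val_spec h8 hD h4 hx
  have hden : (0 : ℚ) < C.den := by exact_mod_cast h8
  have hsum : ∀ f : Fin m → ℚ, ∑ s, ((x ^ D.wl s : ℕ) : ℚ) * f (D.t.cls s) = ∑ c, ev x (D.kk c) * f c := by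
    intro f
    rw [← Finset.sum_fiberwise (s := Finset.univ) (g := fun s => D.t.cls s)]
    refine Finset.sum_congr rfl fun c _ => ?_
    rw [← ChkK.spec (x : ℚ) D.chkK c, Finset.sum_mul]
    refine Finset.sum_congr rfl fun s hs => ?_
    rw [(Finset.mem_filter.1 hs).2]
    push_cast
    rfl
  have hK : ∀ c, (∑ s, if D.t.cls s = c then ((x ^ D.wl s : ℕ) : ℚ) else 0) = ev x (D.kk c) := by
    intro c
    rw [← ChkK.spec (x : ℚ) D.chkK c, Finset.sum_filter]
    refine Finset.sum_congr rfl fun s _ => ?_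
    push_cast
    rfl
  -- the equations in terms of `mp`
  have hmp : ∀ (b : Fin m → ℚ) (c : Fin m),
      (∑ s, (if D.t.cls s = c then ((x ^ D.wl s : ℕ) : ℚ) * D.t.tau (fun i => x ^ D.e i) j (fun u => b (D.t.cls u)) s
        else 0) = ev x C.th / ev x D.ff * (∑ s, if D.t.cls s = c then ((x ^ D.wl s : ℕ) : ℚ) else 0) * b c) ↔
      ∑ c', ev x (mpOf C.th D.bb c c') * b c' = 0 := by
    intro b c
    rw [D.chkM.spec x b c, hK]
    have hKc := ev_pos hx' (D.chkP c)
    have e1 : ∑ c', ev x (mpOf C.th D.bb c c') * b c' = ∑ c', ev x (D.bb c c') * b c' - ev x C.th * b c := by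
      have e2 : ∀ c', ev (x : ℚ) (mpOf C.th D.bb c c') * b c' = ev x (D.bb c c') * b c' -
          if c = c' then ev x C.th * b c' else 0 := by
        intro c'
        rw [mpOf]
        split_ifs with hcc
        · rw [ev_pAdd, ev_pNeg]
          ring
        · ring
      rw [Finset.sum_congr rfl fun c' _ => e2 c', Finset.sum_sub_distrib, Finset.sum_ite_eq,
        if_pos (Finset.mem_univ _)]
    have e3 : ev x (D.kk c) * ∑ c', ev x (D.bb c c') * b c' = ev x D.ff * ∑ c', ev x (D.mat c c') * b c' := by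
      rw [Finset.mul_sum, Finset.mul_sum]
      refine Finset.sum_congr rfl fun c' _ => ?_
      have h9 := ev_of_pEq (x : ℚ) (D.chkB c c')
      rw [ev_pMul, ev_pMul] at h9
      rw [← mul_assoc, h9, mul_assoc]
    rw [e1, sub_eq_zero]
    constructor
    · intro h
      rw [h] at e3
      refine mul_left_cancel₀ hKc.ne' ?_
      rw [e3]
      field_simp
    · intro h
      rw [h] at e3
      refine mul_left_cancel₀ htd.ne' ?_
      rw [← e3]
      field_simp
  have heig : ∀ c, ∑ c', ev x (mpOf C.th D.bb c c') * (ev x (C.nu c') / ev x (C.nu o)) = 0 := by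
    intro c
    have h9 := ev_of_pZero (x : ℚ) _ (h5 c)
    rw [ev_pSum] at h9
    have h10 : ∑ c', ev (x : ℚ) (mpOf C.th D.bb c c') * (ev x (C.nu c') / ev x (C.nu o)) =
        (∑ c', ev x (pMul (mpOf C.th D.bb c c') (C.nu c'))) / ev x (C.nu o) := by
      rw [Finset.sum_div]
      refine Finset.sum_congr rfl fun c' _ => ?_
      rw [ev_pMul]
      ring
    rw [h10, h9, zero_div]
  obtain ⟨χ, hχ, -, hχ1⟩ := Av.exists_char_av R hG D.t (fun i => x ^ D.e i) hq (ev x C.th / ev x D.ff)
    (fun c => ev x (C.nu c) / ev x (C.nu o)) (by rw [← ho]; exact div_self hnu.ne') (fun s => x ^ D.wl s)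
    (by simp only [D.wo, pow_zero])
    (fun i s h9 => by
      show x ^ D.wl (D.t.st i s) = x ^ D.e i * x ^ D.wl s
      rw [D.ws i s h9, pow_add])
    (fun c => (hmp _ c).2 (heig c))
    (fun b hb c => by
      have hb' : ∀ c, ∑ c', ev x (mpOf C.th D.bb c c') * b c' = 0 := fun c => (hmp b c).1 (hb c)
      have h9 := zero_of_chkU hx' (mpOf C.th D.bb) (fun c => b c - b o * (ev x (C.nu c) / ev x (C.nu o)))
        (fun r => by
          have e1 : ∀ c, ev (x : ℚ) (mpOf C.th D.bb r c) * (b c - b o * (ev x (C.nu c) / ev x (C.nu o))) =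
              ev x (mpOf C.th D.bb r c) * b c - b o * (ev x (mpOf C.th D.bb r c) * (ev x (C.nu c) / ev x (C.nu o))) := fun c => by ring
          rw [Finset.sum_congr rfl fun c _ => e1 c, Finset.sum_sub_distrib, ← Finset.mul_sum, hb', heig, mul_zero,
            sub_zero]) C.steps [o] (fun c hc => by
          rw [List.mem_singleton.1 hc, div_self hnu.ne', mul_one, sub_self]) h6 c
      rw [← ho]
      exact sub_eq_zero.1 h9)
    (val C.den C.dn x) (by
      rw [hsum (fun c => (ev x (C.nu c) / ev x (C.nu o)) ^ 2)]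
      have h9 := hsum (fun _ => 1)
      simp only [mul_one] at h9
      rw [h9]
      have h10 := ev_of_pEq (x : ℚ) h7
      rw [ev_pMul, ev_pScale, ev_pMul, ev_pMul, ev_pSum, ev_pSum, ← hval] at h10
      have h11 : ∑ c, ev (x : ℚ) (D.kk c) * (ev x (C.nu c) / ev x (C.nu o)) ^ 2 =
          (∑ c, ev x (pMul (D.kk c) (pMul (C.nu c) (C.nu c)))) / ev x (C.nu o) ^ 2 := by
        rw [Finset.sum_div]
        refine Finset.sum_congr rfl fun c _ => ?_
        rw [ev_pMul, ev_pMul]
        ring
      rw [h11]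
      have h12 : (0 : ℚ) < ev x (C.nu o) ^ 2 := by positivity
      rw [← mul_div_assoc, div_eq_iff h12.ne']
      refine mul_left_cancel₀ hden.ne' ?_
      rw [← mul_assoc, h10]
      push_cast
      ring)
  exact ⟨χ, hχ, hχ1⟩

end Cfsg.Agent.H996.Eight.Cert
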