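import Cfsg.Agent.H996.Eight.Enc

/-!
# The table of the spherical machine: `²E₆`, node `1` (helper996, for S4899; made by a program)

96 states, 17 classes; 4 certificates.
-/

set_option autoImplicit false
set_option maxRecDepth 20000

namespace Cfsg.Agent.H996.Eight.TabTwEc

open Cfsg.Agent.H967.Sph Cfsg.Agent.H64.Dl.Sph Cfsg.Agent.H996.Eight.Cert Cfsg.Agent.H996.Eight.En

/-- the Cartan matrix -/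
def A (i k : Fin 4) : ℤ := (([[2, -1, 0, 0], [-1, 2, -1, 0], [0, -2, 2, -1], [0, 0, -1, 2]] : List (List ℤ)).getD i []).getD k 0

/-- the encoded table -/
def enc : Enc 4 96 17 where
  j := 1
  V := 1284911370592115741145467308807142248162193956467530874823611601851954312218753576470893076352684504893129542723112469820594033655934315355468228140135497590439906078512556871771869297913989898455302851402474075477408310766669975030779093224520270318911883414103910537719086355933279555526195580583657013630871461492206870555035743978267502958643987620665281870674194073106182397399264391490063845102543351784429276714067855435298508311694103168472089240855480472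
  S := 837589678413498547759361986121697450834173025641364801961591840870520039298470932853899676011374553131204624785037800196292428260572066869251398175886605140561889836289886534955686688689319556538821250793588577802544543421809306121745110365485353090723350942343806885505742327461774528394194749361174514154680533160159154224554931371447456049529429488726652980240677224952140397138246787930859365638136874463362867392238759395003651640801536459751086023595202407731844380814210025970088464008699428921743583775217125891544437733861002121522742107299272100462951021457939028788072579910569934177940381688423706115951927365236775518572276223080414359159782497554838740484332057489866974325337986094810178183235814396217735232963678077814058906292291032320576691950406116586175803918548764645245766195122162326734524997391088283206687167542566256173158905031634103984550498180834049362448277621426759728232528935027025068851902018961136914351401056754327841979225072851396825218176427872433135411835904459725663308297839479984833637143738161782025234644830652451452275545966189403371251924023861289452497798051115494592561169325550895617674849948250224460800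
  C := 1608078041247473183223017610267657237485495875775679146050786666517192576297543765012819970575402493876055082265699839497791311591810949853512736
  P := 895445215418950761177530704141068720895938339286243434662397087932564328409227672147539467113322644247299325222819785994599477076919780864110620898887960586072113836282273822771699602845316832382068934038586353364528291427010571909382266263723534098073573672390950030224865452157129719808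
  Q := 2789692968919681461534834324421675591301093964464887505221178604453918581823970658278634588350446559150750846558224
  CP := 9736652946473329706396033679320081145040674372899105912855684037666415593080486585245140128641272397509338467950447024109516293076397931559621511517069274969968732514804563677827961248543608786141379305924057368631103246143229710586229903123876700676690635229839385863234910575170456387583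
  CQ := 328984305419303874445824026569272137894600928358058325104003739371352542173032444532508497535441253167141306376192
  R := 138965507663586271244303068440218567081635559244800
  W := 176537005374416680876940025138221571897496340865708501464705929394930548837025117605387117913013234997887555070259680101718311250284938188216527780127503446326452492809666820534166682403359574089609123599329521277285558701663584512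

/-- the table -/
def tab : Tab A 1 96 17 :=
  enc.tab A (by decide +kernel) (by decide +kernel) (by decide +kernel) (by decide +kernel) (by decide +kernel)
    (by decide +kernel) (by decide +kernel)

/-- the exponents of the parameters -/
def e (i : Fin 4) : ℕ := ([1, 1, 2, 2] : List ℕ).getD i 0

def matL : List (List (List ℤ)) := [[[], [0, 1], [], [], [], [], [], [], [], [], [], [], [], [], [], [], []], [[0, 1], [0, -1, 1, 1], [0, 0, 0, 0, 1, 0, 1], [0, 0, 0, 0, 0, 1, 0, 1], [], [], [], [], [], [], [], [], [], [], [], [], []], [[], [0, 0, 0, 0, 1, 0, 1], [0, 0, 0, 0, -1, 1, -1, 1], [0, 0, 0, 0, 0, 0, 1, 0, 1], [0, 0, 0, 0, 0, 0, 0, 0, 0, 1], [], [], [0, 0, 0, 0, 0, 0, 0, 0, 0, 0, 1], [], [], [], [], [], [], [], [], []], [[], [0, 0, 0, 0, 0, 1, 0, 1], [0, 0, 0, 0, 0, 0,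 1, 0, 1], [0, 0, 0, 0, 0, -1, 0, 0, 1, 1, 1], [], [0, 0, 0, 0, 0, 0, 0, 0, 0, 1, 0, 1], [0, 0, 0, 0, 0, 0, 0, 0, 0, 0, 1, 0, 1], [], [0, 0, 0, 0, 0, 0, 0, 0, 0, 0, 0, 1, 0, 1], [], [], [], [], [], [], [], []], [[], [], [0, 0, 0, 0, 0, 0, 0, 0, 0, 1], [], [0, 0, 0, 0, 0, 0, 0, 0, 0, -1, 1], [], [], [0, 0, 0, 0, 0, 0, 0, 0, 0, 0, 0, 1], [], [], [], [], [], [], [], [], []], [[], [], [], [0, 0, 0, 0, 0, 0, 0, 0, 0, 1, 0, 1], [], [0, 0, 0, 0, 0, 0, 0, 0, 0, -1, 1, -1, 1], [], [], [], [0, 0, 0, 0, 0, 0, 0, 0, 0, 0, 0, 0, 0, 0, 1], [], [], [], [], [], [], []], [[], [], [], [0, 0, 0, 0, 0, 0, 0, 0, 0, 0, 1, 0, 1], [], [], [0, 0, 0, 0, 0, 0, 0, 0, 0, 0, -1, 1, -1, 1, 0, 1], [], [0, 0, 0, 0, 0, 0, 0, 0, 0, 0, 0, 0, 1, 0, 1], [], [], [0, 0, 0, 0, 0, 0, 0, 0, 0, 0, 0, 0, 0, 0, 0, 0, 1],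 [], [], [], [], []], [[], [], [0, 0, 0, 0, 0, 0, 0, 0, 0, 0, 1], [], [0, 0, 0, 0, 0, 0, 0, 0, 0, 0, 0, 1], [], [], [0, 0, 0, 0, 0, 0, 0, 0, 0, 0, -1, 0, 1], [0, 0, 0, 0, 0, 0, 0, 0, 0, 0, 0, 0, 0, 1, 0, 1], [], [0, 0, 0, 0, 0, 0, 0, 0, 0, 0, 0, 0, 0, 0, 1, 0, 1], [], [], [], [], [], []], [[], [], [], [0, 0, 0, 0, 0, 0, 0, 0, 0, 0, 0, 1, 0, 1], [], [], [0, 0, 0, 0, 0, 0, 0, 0, 0, 0, 0, 0, 1, 0, 1], [0, 0, 0, 0, 0, 0, 0, 0, 0, 0, 0, 0, 0, 1, 0, 1], [0, 0, 0, 0, 0, 0, 0, 0, 0, 0, 0, -1, 0, -1, 1, 0, 1], [0, 0, 0, 0, 0, 0, 0, 0, 0, 0, 0, 0, 0, 0, 0, 0, 1, 0, 1], [0, 0, 0, 0, 0, 0, 0, 0, 0, 0, 0, 0, 0, 0, 0, 1, 0, 1], [], [0, 0, 0, 0, 0, 0, 0, 0, 0, 0, 0, 0, 0, 0, 0, 0, 0, 1, 0, 1], [], [], [], []], [[], [], [], [], [], [0, 0, 0, 0, 0, 0, 0, 0, 0, 0, 0, 0, 0, 0, 1], [], [], [0,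 0, 0, 0, 0, 0, 0, 0, 0, 0, 0, 0, 0, 0, 0, 0, 1, 0, 1], [0, 0, 0, 0, 0, 0, 0, 0, 0, 0, 0, 0, 0, 0, -1, 1, 0, 1, -1, 1], [], [], [0, 0, 0, 0, 0, 0, 0, 0, 0, 0, 0, 0, 0, 0, 0, 0, 0, 0, 1, 0, 1], [], [], [], []], [[], [], [], [], [], [], [], [0, 0, 0, 0, 0, 0, 0, 0, 0, 0, 0, 0, 0, 0, 1, 0, 1], [0, 0, 0, 0, 0, 0, 0, 0, 0, 0, 0, 0, 0, 0, 0, 1, 0, 1], [], [0, 0, 0, 0, 0, 0, 0, 0, 0, 0, 0, 0, 0, 0, -1, 0, 0, 0, 1], [], [], [0, 0, 0, 0, 0, 0, 0, 0, 0, 0, 0, 0, 0, 0, 0, 0, 0, 0, 0, 1], [0, 0, 0, 0, 0, 0, 0, 0, 0, 0, 0, 0, 0, 0, 0, 0, 0, 0, 0, 0, 1], [], []], [[], [], [], [], [], [], [0, 0, 0, 0, 0, 0, 0, 0, 0, 0, 0, 0, 0, 0, 0, 0, 1], [], [], [], [], [0, 0, 0, 0, 0, 0, 0, 0, 0, 0, 0, 0, 0, 0, 0, 0, -1, 1], [0, 0, 0, 0, 0, 0, 0, 0, 0, 0, 0, 0, 0, 0, 0, 0, 0, 0, 0, 1, 0, 1], [], [], [],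 []], [[], [], [], [], [], [], [], [], [0, 0, 0, 0, 0, 0, 0, 0, 0, 0, 0, 0, 0, 0, 0, 0, 0, 1, 0, 1], [0, 0, 0, 0, 0, 0, 0, 0, 0, 0, 0, 0, 0, 0, 0, 0, 0, 0, 1, 0, 1], [], [0, 0, 0, 0, 0, 0, 0, 0, 0, 0, 0, 0, 0, 0, 0, 0, 0, 0, 0, 1, 0, 1], [0, 0, 0, 0, 0, 0, 0, 0, 0, 0, 0, 0, 0, 0, 0, 0, 0, -1, 0, -1, 1, 1, 1, 1], [], [0, 0, 0, 0, 0, 0, 0, 0, 0, 0, 0, 0, 0, 0, 0, 0, 0, 0, 0, 0, 0, 0, 1, 0, 1], [0, 0, 0, 0, 0, 0, 0, 0, 0, 0, 0, 0, 0, 0, 0, 0, 0, 0, 0, 0, 0, 0, 0, 1, 0, 1], []], [[], [], [], [], [], [], [], [], [], [], [0, 0, 0, 0, 0, 0, 0, 0, 0, 0, 0, 0, 0, 0, 0, 0, 0, 0, 0, 1], [], [], [0, 0, 0, 0, 0, 0, 0, 0, 0, 0, 0, 0, 0, 0, 0, 0, 0, 0, 0, -1, 1], [0, 0, 0, 0, 0, 0, 0, 0, 0, 0, 0, 0, 0, 0, 0, 0, 0, 0, 0, 0, 0, 1], [], []], [[], [], [], [], [], [], [], [], [], [], [0, 0, 0,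 0, 0, 0, 0, 0, 0, 0, 0, 0, 0, 0, 0, 0, 0, 0, 0, 0, 1], [], [0, 0, 0, 0, 0, 0, 0, 0, 0, 0, 0, 0, 0, 0, 0, 0, 0, 0, 0, 0, 0, 0, 1, 0, 1], [0, 0, 0, 0, 0, 0, 0, 0, 0, 0, 0, 0, 0, 0, 0, 0, 0, 0, 0, 0, 0, 1], [0, 0, 0, 0, 0, 0, 0, 0, 0, 0, 0, 0, 0, 0, 0, 0, 0, 0, 0, 0, -1, 0, 0, 1, -1, 1], [0, 0, 0, 0, 0, 0, 0, 0, 0, 0, 0, 0, 0, 0, 0, 0, 0, 0, 0, 0, 0, 0, 0, 0, 1, 0, 1], []], [[], [], [], [], [], [], [], [], [], [], [], [], [0, 0, 0, 0, 0, 0, 0, 0, 0, 0, 0, 0, 0, 0, 0, 0, 0, 0, 0, 0, 0, 0, 0, 1, 0, 1], [], [0, 0, 0, 0, 0, 0, 0, 0, 0, 0, 0, 0, 0, 0, 0, 0, 0, 0, 0, 0, 0, 0, 0, 0, 1, 0, 1], [0, 0, 0, 0, 0, 0, 0, 0, 0, 0, 0, 0, 0, 0, 0, 0, 0, 0, 0, 0, 0, 0, 0, -1, 0, 0, 0, 1, 1], [0, 0, 0, 0, 0, 0, 0, 0, 0, 0, 0, 0, 0, 0, 0, 0, 0, 0, 0, 0, 0, 0, 0, 0, 0, 0, 0, 0, 0, 1]], [[], [], [],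 [], [], [], [], [], [], [], [], [], [], [], [], [0, 0, 0, 0, 0, 0, 0, 0, 0, 0, 0, 0, 0, 0, 0, 0, 0, 0, 0, 0, 0, 0, 0, 0, 0, 0, 0, 0, 0, 1], [0, 0, 0, 0, 0, 0, 0, 0, 0, 0, 0, 0, 0, 0, 0, 0, 0, 0, 0, 0, 0, 0, 0, 0, 0, 0, 0, 0, 0, -1, 1]]]

def bbL : List (List (List ℤ)) := [[[], [0, 1, 1, 1, 1, 1, 1], [], [], [], [], [], [], [], [], [], [], [], [], [], [], []], [[1], [-1, 1, 1], [0, 0, 0, 1, 0, 1], [0, 0, 0, 0, 1, 0, 1], [], [], [], [], [], [], [], [], [], [], [], [], []], [[], [1, 0, 1], [-1, 1, -1, 1], [0, 0, 1, 0, 1], [0, 0, 0, 0, 0, 1], [], [], [0, 0, 0, 0, 0, 0, 1], [], [], [], [], [], [], [], [], []], [[], [1], [0, 1], [-1, 0, 1, 1], [], [0, 0, 0, 0, 1], [0, 0, 0, 0, 0, 1], [], [0, 0, 0, 0, 0, 0, 1], [], [], [], [], [], [], [], []], [[], [], [1, 0, 1, 0, 1], [], [-1, 1,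 -1, 1, -1, 1], [], [], [0, 0, 1, 0, 1, 0, 1], [], [], [], [], [], [], [], [], []], [[], [], [], [1, 1, 1, 1], [], [-1, 0, 0, 0, 1], [], [], [], [0, 0, 0, 0, 0, 1, 1], [], [], [], [], [], [], []], [[], [], [], [1, 0, 1], [], [], [-1, 1, -1, 1, 0, 1], [], [0, 0, 1, 0, 1], [], [], [0, 0, 0, 0, 0, 0, 1], [], [], [], [], []], [[], [], [1], [], [0, 1], [], [], [-1, 0, 1], [0, 0, 0, 1, 0, 1], [], [0, 0, 0, 0, 1, 0, 1], [], [], [], [], [], []], [[], [], [], [1], [], [], [0, 1], [0, 0, 1], [-1, 0, 0, 1], [0, 0, 0, 0, 0, 1], [0, 0, 0, 0, 1], [], [0, 0, 0, 0, 0, 0, 1], [], [], [], []], [[], [], [], [], [], [1], [], [], [0, 0, 1, 0, 1], [-1, 1, 0, 1, -1, 1], [], [], [0, 0, 0, 0, 1, 0, 1], [], [], [], []], [[], [], [], [], [], [], [], [1, 0, 1], [0, 1, 0, 1], [], [-1, 0, 0, 0, 1], [],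 [], [0, 0, 0, 0, 0, 1], [0, 0, 0, 0, 0, 0, 1], [], []], [[], [], [], [], [], [], [1, 1], [], [], [], [], [-1, 0, 1], [0, 0, 0, 1, 1, 1, 1], [], [], [], []], [[], [], [], [], [], [], [], [], [1], [0, 1], [], [0, 0, 1], [-1, 0, 0, 1, 1], [], [0, 0, 0, 0, 0, 1], [0, 0, 0, 0, 0, 0, 1], []], [[], [], [], [], [], [], [], [], [], [], [1, 0, 1, 0, 1], [], [], [-1, 1, -1, 1, -1, 1], [0, 0, 1, 0, 1, 0, 1], [], []], [[], [], [], [], [], [], [], [], [], [], [1], [], [0, 0, 1, 0, 1], [0, 1], [-1, 0, 0, 1, -1, 1], [0, 0, 0, 0, 1, 0, 1], []], [[], [], [], [], [], [], [], [], [], [], [], [], [1, 0, 1], [], [0, 1, 0, 1], [-1, 0, 0, 0, 1, 1], [0, 0, 0, 0, 0, 0, 1]], [[], [], [], [], [], [], [], [], [], [], [], [], [], [], [], [1, 1, 1, 1, 1, 1], [-1, 0, 0, 0, 0, 0, 1]]]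

def kL : List (List ℤ) := [[1], [0, 1, 1, 1, 1, 1, 1], [0, 0, 0, 0, 1, 1, 1, 1, 1, 1], [0, 0, 0, 0, 0, 1, 1, 2, 2, 2, 2, 1, 1], [0, 0, 0, 0, 0, 0, 0, 0, 0, 1, 1], [0, 0, 0, 0, 0, 0, 0, 0, 0, 1, 0, 1, 0, 1], [0, 0, 0, 0, 0, 0, 0, 0, 0, 0, 1, 1, 1, 1, 1, 1], [0, 0, 0, 0, 0, 0, 0, 0, 0, 0, 1, 1, 1, 1, 1, 1], [0, 0, 0, 0, 0, 0, 0, 0, 0, 0, 0, 1, 1, 2, 2, 2, 2, 1, 1], [0, 0, 0, 0, 0, 0, 0, 0, 0, 0, 0, 0, 0, 0, 1, 1, 1, 1, 1, 1], [0, 0, 0, 0, 0, 0, 0, 0, 0, 0, 0, 0, 0, 0, 1, 1, 1, 1, 1, 1], [0, 0, 0, 0, 0, 0, 0, 0, 0, 0, 0, 0, 0, 0, 0, 0, 1, 0, 1, 0, 1], [0, 0, 0, 0, 0, 0, 0, 0, 0, 0, 0, 0, 0, 0, 0, 0, 0, 1, 1, 2, 2, 2, 2, 1, 1], [0, 0, 0, 0, 0, 0, 0, 0, 0, 0, 0, 0, 0, 0, 0, 0, 0, 0, 0, 1, 1], [0, 0, 0, 0, 0, 0, 0, 0, 0, 0, 0, 0, 0, 0, 0, 0, 0, 0, 0, 0, 1, 1, 1, 1, 1, 1], [0, 0,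 0, 0, 0, 0, 0, 0, 0, 0, 0, 0, 0, 0, 0, 0, 0, 0, 0, 0, 0, 0, 0, 1, 1, 1, 1, 1, 1], [0, 0, 0, 0, 0, 0, 0, 0, 0, 0, 0, 0, 0, 0, 0, 0, 0, 0, 0, 0, 0, 0, 0, 0, 0, 0, 0, 0, 0, 1]]

/-- the data -/
def data : Data A 1 96 17 where
  t := tab
  e := e
  wl := enc.wl
  mat c c' := (matL.getD c []).getD c' []
  kk c := kL.getD c []
  ff := [1, 1, 1, 1, 1, 1]
  bb c c' := (bbL.getD c []).getD c' []
  chkM := by decide +kernel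
  chkK := by decide +kernel
  chkF := by decide +kernel
  chkP := by decide +kernel
  chkB := by decide +kernel
  wo := by decide +kernel
  ws := by decide +kernel

/-- `1*q^2*P4*P8*P10*P12 / 1` (`Pn` the cyclotomic polynomials) -/
def c1 : Crt 17 where
  th := [-1, 1, 1, 2, 1, 1]
  nu c := ([[0, 0, 0, 0, 0, 0, 0, 0, 0, 1, 1, 1, 1, 1, 1], [0, 0, 0, 0, 0, 0, 0, 0, -1, 1, 1, 2, 1, 1], [0, 0, 0, 0, 0, 0, -1, 0, -1, 2, 1, 2, 0, 1], [0, 0, 0, 0, 0, 0, -1, -1, -1, 2, 2, 2], [0, 0, 0, 0, -1, 0, -1, 1, -1, 2, 0, 2, 0, 1], [0, 0, 0, 0, 0, -1, -1, -1, 0, 2, 2, 1], [0, 0, 0, 0, -1, -1, -1, 0, 0, 2, 1, 1], [0, 0, 0, 0, -1, -1, -1, 0, 0, 2, 1, 1], [0, 0, 0, 0, -1, -2, -1, 0, 1, 2, 1], [0, 0, 0, -1, -1, -2, 0, 0, 1, 1, 1], [0, 0, 0, -1, -1, -2, 0, 0, 1, 1, 1], [0, 0, 0, -1, -2, -2, 0, 1,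 1, 1], [0, 0, 0, -2, -2, -2, 1, 1, 1], [0, -1, 0, -2, 0, -2, 1, -1, 1, 0, 1], [0, -1, 0, -2, -1, -2, 1, 0, 1], [0, -1, -1, -2, -1, -1, 1], [-1, -1, -1, -1, -1, -1]] : List (List ℤ)).getD c []
  steps := [(12, [(0, [3, 11, 30, 57, 84, 88, 61, -10, -84, -149, -156, -121, -55, 3, 37, 42, 30, 15, 5, 1]), (1, [-3, -10, -28, -56, -97, -137, -181, -197, -213, -182, -157, -93, -47, 11, 36, 51, 42, 29, 14, 5, 1]), (2, [0, -3, -11, -35, -72, -128, -177, -217, -217, -196, -139, -88, -26, 1, 34, 31, 36, 21, 15, 5, 2]), (3, [0, 0, -3, -12, -41, -91, -174, -264, -343, -379, -346, -270, -150, -47, 29, 65, 62, 48, 26, 13, 4, 1]), (4, [0, 0, 0, 0, -3, -9, -23, -40, -57, -69, -65, -58, -35, -19, -3, 8, 9, 12, 7, 6, 2, 1]), (5, [0, 0, 0, 0, 1, 0, -1, -12, -29, -53, -77, -83, -78, -51, -21, 3,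 17, 16, 11, 4, 1]), (6, [0, 0, 0, 0, 1, 1, 2, -2, -12, -28, -60, -75, -105, -85, -82, -37, -20, 8, 11, 12, 7, 3, 1]), (7, [0, 0, 0, 0, 0, -3, -10, -26, -49, -72, -98, -96, -102, -62, -50, -7, 1, 19, 15, 13, 7, 3, 1]), (8, [0, 0, 0, 0, 0, 2, 5, 12, 18, 14, 7, -35, -50, -106, -87, -106, -52, -42, -2, 0, 9, 3, 2]), (9, [0, 0, 0, 0, 0, 1, 4, 13, 28, 49, 68, 75, 65, 35, -2, -35, -53, -53, -41, -25, -12, -4, -1]), (11, [0, 0, 0, 0, 0, 0, 0, 1, 5, 17, 36, 61, 78, 77, 63, 20, 2, -41, -29, -39, -16, -12, -2, -1]), (12, [0, 0, 0, 0, 0, 0, 1, 5, 18, 46, 99, 174, 264, 344, 373, 358, 244, 143, -17, -76, -140, -110, -91, -44, -23, -6, -2]), (13, [0, 0, 0, 0, 0, 0, 0, 0, 0, 1, 3, 9, 15, 29, 31, 44, 27, 31, 4, 7, -10, -3, -6, -1, -1]), (14, [0, 0, 0, 0, 0, 0, 0, 0, 0, 0, 2, 7, 23, 45, 91,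 121, 177, 160, 177, 93, 80, -5, -2, -35, -14, -15, -3, -2]), (15, [0, 0, 0, 0, 0, 0, 0, 0, 0, 0, 0, 1, 4, 14, 31, 66, 102, 157, 177, 207, 167, 151, 74, 55, 2, 4, -9, -1, -2]), (16, [0, 0, 0, 0, 0, 0, 0, 0, 0, 0, 0, 0, 0, 0, 0, 0, 1, 3, 9, 15, 29, 32, 46, 32, 37, 17, 14, 3, 2])]), (8, [(0, [-2, -3, -8, -9, -15, -6, -9, 10, 14, 29, 29, 26, 16, 7, 2]), (1, [2, 2, 8, 9, 23, 18, 47, 30, 61, 38, 50, 31, 27, 14, 7, 2]), (2, [0, 2, 3, 11, 11, 28, 20, 46, 22, 53, 18, 37, 12, 17, 4, 4]), (3, [0, 0, 2, 4, 14, 18, 40, 39, 63, 51, 62, 42, 38, 21, 13, 5, 2]), (4, [0, 0, 0, 0, 2, 1, 6, 3, 13, 1, 19, 1, 14, 2, 7, 1, 2]), (5, [0, 0, 0, 0, 0, 2, 2, 8, 9, 12, 15, 12, 11, 7, 5, 1]), (6, [0, 0, 0, 0, -1, 1, -2, 5, -2, 17, -2, 24, 1, 20, 2, 9, 1, 2]), (7, [0, 0, 0, 0, 0, 2, 1, 6, 3, 13, 1, 19,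 1, 14, 2, 7, 1, 2]), (8, [0, 0, 0, 0, 0, -2, -1, -8, -4, -19, -4, -32, -2, -33, -3, -21, -3, -9, -1, -2]), (9, [0, 0, 0, 0, 0, 0, 0, 0, 0, 3, -1, 8, -4, 11, -8, 7, -6, 1, -4, 0, -1]), (11, [0, 0, 0, 0, 0, 0, 0, 0, 0, -1, 1, 0, 4, -2, 8, -2, 6, -1, 2])]), (3, [(0, [0, 2, 5, 11, 13, 19, 13, 11, 5, 2]), (1, [2, 3, 8, 7, 17, 7, 17, 7, 8, 3, 2]), (3, [0, 0, -2, -3, -10, -10, -25, -14, -34, -14, -25, -10, -10, -3, -2]), (5, [0, 0, 0, 0, 0, -2, -1, -7, -2, -10, -3, -6, -3, -2]), (6, [0, 0, 0, 0, 0, -1, -1, -4, -3, -10, -2, -12, -2, -7, -1, -2]), (9, [0, 0, 0, 0, 0, 0, 0, 0, -2, -1, -3, -4, -2, -3, -2, -1]), (11, [0, 0, 0, 0, 0, 0, 0, 0, 0, 0, -1, -1, -2, 0, -4, 1, -2])]), (9, [(5, [-1]), (9, [0, -1, -1, -2, 0, -1])]), (6, [(6, [-1, 0, -2, -1, -1]), (11, [0, 0, 0, 0, 0, -1])]), (10,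 [(0, [-1, 0, -1, 3, 7, 10, 8, 4, 1]), (1, [2, 2, 8, 8, 12, 9, 10, 7, 4, 1]), (2, [0, 1, 1, 5, 4, 7, 4, 6, 3, 2]), (4, [0, 0, 0, 0, 1, 1, 2, 1, 2, 1, 1]), (7, [0, 0, 0, 0, 0, 1, 2, 2, 2, 2, 2, 1])]), (14, [(13, [1, 2, 4, 3, 1, -2, -1, -1]), (14, [0, 2, 5, 12, 14, 13, 3, -2, -7, -3, -2]), (15, [0, 0, 0, 0, 2, 3, 7, 6, 7, 1, 1, -2]), (16, [0, 0, 0, 0, 0, 0, 0, 0, 0, 2, 1, 2])]), (16, [(15, [1, 1, 1, 1, 1, 1]), (16, [0, 1, 1, 2])]), (7, [(0, [2, -1, -3, -6, -5, -3, -1]), (1, [-4, -3, -7, -4, -7, -4, -3, -1]), (2, [0, -2, -1, -4, -1, -4, -1, -2]), (4, [0, 0, 0, 0, -1, 0, -1, 0, -1])]), (5, [(5, [1])]), (11, [(11, [1])]), (13, [(13, [1])]), (2, [(0, [0, 0, 2, 1, 1]), (1, [1, 1, 1, 1, 1, 1])]), (4, [(4, [1])]), (15, [(16, [1])]), (1, [(0, [1])])]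
  dn := [0, 0, 1, -1, 1, -1, 2, -1, 2, -2, 2, -1, 2, -1, 1, -1, 1]
  den := 1

theorem ok1 : c1.ok (data.t.cls data.t.o) data.bb data.kk := by decide +kernel

theorem dvd1 : pDvd c1.den c1.dn := by decide +kernel

/-- `1*q^6*P4^2*P8*P12*P18 / 1` (`Pn` the cyclotomic polynomials) -/
def c2 : Crt 17 where
  th := [-1, 0, 1, 1, 1]
  nu c := ([[0, 0, 0, 0, 0, 0, 0, 0, 0, 0, 0, 0, 0, 0, 0, 1, 0, 2, 0, 2, 0, 1], [0, 0, 0, 0, 0, 0, 0, 0, 0, 0, 0, 0, 0, 0, -1, 1, -1, 2, 0, 1], [0, 0, 0, 0, 0, 0, 0, 0, 0, 0, 0, 0, -1, 0, -2, 1, -1, 1], [0, 0, 0, 0, 0, 0, 0, 0, 0, 0, 0, 1, -1, 0, -2, 1, 0, 1], [0, 0, 0, 0, 0, 0, 0, 0, 0, 0, -1, 0, -2, 0, -2, 0, -1], [0, 0, 0, 0, 0, 0, 0, 0, 0, 1, 0, 1, -1, 0, -1, 1, 0, 1], [0, 0, 0, 0, 0, 0, 0, 0, 0, 1, -1, 1, -2, 0, -1], [0, 0, 0, 0, 0, 0, 0, 0, 0,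 1, -1, 1, -2, 0, -1], [0, 0, 0, 0, 0, 0, 0, 0, 0, 2, -1, 1, -2], [0, 0, 0, 0, 0, 0, 0, 1, 0, 2, -1, 1, -1], [0, 0, 0, 0, 0, 0, 0, 1, 0, 2, -1, 1, -1], [0, 0, 0, 0, -1, 0, -1, 1, 0, 1, -1, 0, -1], [0, 0, 0, 0, -1, 0, -1, 2, 0, 1, -1], [0, 0, 0, 0, 0, 1, 0, 2, 0, 2, 0, 1], [0, 0, 0, 0, -1, 1, -1, 2, 0, 1], [0, 0, -1, 0, -2, 1, -1, 1], [-1, 0, -2, 0, -2, 0, -1]] : List (List ℤ)).getD c []
  steps := [(13, [(0, [-2, 2, 4, 5, -1, -3, -5]), (1, [2, 2, 2, 0, 2, 0, -1, -2, -4, 0, -1]), (2, [0, 0, -1, 0, 0, 4, 5, 6, 5, 1, 1, -1]), (3, [0, 0, -1, -4, -4, -10, -8, -9, -6, 0, 0, 3, 0, 0, -1]), (4, [0, 0, 0, 0, 0, 1, 3, 4, 5, 4, 2, 1]), (5, [0, 0, 0, 0, -1, -2, -2, -8, -2, -9, 2, -2, 4, 0, 1, -1]), (6, [0, 0, 0, 0, 0, 1, 1, 2, 0, -1, -2, -2, 0, 0, 1]), (7, [0, 0, 0, 0, 0, -1, 0, 2, 5,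 7, 6, 3, 0, -1, -1]), (9, [0, 0, 0, 0, 0, 0, 0, 1, 0, 0, -2, -2, -1, 0, 2, 1, 1]), (10, [0, 0, 0, 0, 0, 0, 0, -1, -3, -5, -3, -1, 0, -1, -3, -2, -1]), (11, [0, 0, 0, 0, 0, 0, -1, 3, 1, 8, 3, 6, -1, 2, -3, 2, -1, 1]), (12, [0, 0, 0, 0, 0, 0, 0, -1, 2, 3, 8, 9, 9, 6, 3, 1, -1, 1, -1, 1]), (13, [0, 0, 0, 0, 0, 0, 0, 0, 0, 0, -1, -5, -7, -6, -3, 1, 1]), (14, [0, 0, 0, 0, 0, 0, 0, 0, 0, 0, -3, -4, -5, -2, -1, -1, -1, -2, 0, -1]), (15, [0, 0, 0, 0, 0, 0, 0, 0, 0, 0, 0, -1, 0, -2, 1, 0, 1, 2, -1, 1, -1]), (16, [0, 0, 0, 0, 0, 0, 0, 0, 0, 0, 0, 0, 0, 0, 0, -1, 1, -2, 2, -1, 1])]), (8, [(0, [2, -5, 2, -1, 2]), (1, [-2, 1, 0, -1, 1, 0, 1]), (2, [0, 0, 0, 0, -1, 0, -1, -1, 0, -1]), (3, [0, 0, 2, -1, 3, 0, 1, 2, -1, 2, -1, 1]), (4, [0, 0, 0, 0, 0, -1, 0, -1, -1, 0, -1]), (5, [0, 0, 0,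 0, 2, -3, 6, -6, 7, -5, 4, -2, 1]), (7, [0, 0, 0, 0, 0, 1, -2, 1, -2, -1, 0, -2, 1, -1, 1]), (10, [0, 0, 0, 0, 0, 0, 0, 1, 1, 0, 0, 1, 0, 0, 0, 0, 1]), (11, [0, 0, 0, 0, 0, 0, 0, -2, 3, -6, 6, -7, 5, -4, 2, -1]), (12, [0, 0, 0, 0, 0, 0, 0, 0, -2, 1, -3, 0, -1, -2, 1, -2, 1, -1]), (13, [0, 0, 0, 0, 0, 0, 0, 0, 0, 0, 2, 0, 1, 0, 0, 2, -1]), (14, [0, 0, 0, 0, 0, 0, 0, 0, 0, 0, 2, -1, 1, 1, 0, 1, -1, 1])]), (3, [(0, [-1, 4, -5, 4, -9, 8, -3, 8, -3, 1, -2]), (1, [1, -2, 3, 0, 7, 4, 5, 6, 1, 4, -3, 0, -2]), (2, [0, 0, -1, 1, 0, 4, 3, 5, 5, 3, 4, 0, 1, -1]), (3, [0, 0, 0, -1, -2, -4, -5, -6, -6, -5, -4, -2, -1]), (4, [0, 0, 0, 0, 0, 0, 1, 1, 2, 2, 2, 2, 1, 1]), (5, [0, 0, 0, 0, 0, -1, -1, -3, -2, -4, -2, -3, -1, -1]), (10, [0, 0, 0, 0, 0, 0, 0, 0, 0, -2, -3, -5, -5, -5, -5, -3, -2]),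 (11, [0, 0, 0, 0, 0, 0, 0, 0, 1, 1, 3, 2, 4, 2, 3, 1, 1]), (12, [0, 0, 0, 0, 0, 0, 0, 0, 0, 1, 2, 4, 5, 6, 6, 5, 4, 2, 1]), (13, [0, 0, 0, 0, 0, 0, 0, 0, 0, 0, 0, -1, -3, -4, -4, -2]), (14, [0, 0, 0, 0, 0, 0, 0, 0, 0, 0, 0, -1, -2, -3, -3, -3, -3, -2, -1])]), (10, [(0, [-1, 1, 1, 2]), (1, [1, 1, 1, 1, 1, 1]), (3, [0, 0, -1, -1, -2, -2, -2, -2, -1, -1]), (5, [0, 0, 0, 0, -1, 0, -2, 0, -2, 0, -1]), (11, [0, 0, 0, 0, 0, 0, 0, 1, 0, 2, 0, 2, 0, 1]), (12, [0, 0, 0, 0, 0, 0, 0, 0, 1, 1, 2, 2, 2, 2, 1, 1]), (13, [0, 0, 0, 0, 0, 0, 0, 0, 0, 0, -1, -2, -3, -2]), (14, [0, 0, 0, 0, 0, 0, 0, 0, 0, 0, -1, -1, -1, -1, -1, -1])]), (12, [(13, [1, 1, 2, -1, -5, -8, -7, -2, 1, 2]), (14, [1, 2, 2, 1, -1, -2, -3, -4, -4, -3, -1]), (15, [0, 0, 1, 1, 3, 2, 3, 2, 1, 1, -1, 0, -1]), (16, [0, 0, 0,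 0, 0, 0, 1, 0, 2, 0, 2, 0, 1])]), (9, [(5, [-1]), (9, [0, 0, -1, -1])]), (6, [(0, [-1, 2]), (1, [1, 0, 0, 1]), (3, [0, 0, -1, 0, -1, -1, 0, -1]), (5, [0, 0, 0, 0, -1, 1, -2, 1, -1])]), (14, [(13, [1])]), (7, [(0, [-1, 5, -5, 3, -13, 5, -5, 8, -3, 1, -2]), (1, [1, -3, 1, -3, 4, 1, 2, 4, 0, 4, -3, 0, -2]), (2, [0, 0, -1, 1, 0, 4, 3, 5, 5, 3, 4, 0, 1, -1]), (4, [0, 0, 0, 0, 0, 0, 1, 1, 2, 2, 2, 2, 1, 1])]), (4, [(0, [1, -3, -1, -2, 2, 0, 1]), (1, [-1, 1, 1, 2, 2, 2, 3, 1, 1]), (2, [0, 0, 1, 1, 2, 2, 2, 2, 1, 1])]), (2, [(0, [-1, 0, 1, 1]), (1, [1, 1, 1, 1, 1, 1])]), (15, [(15, [-1, -1, -1, 0, 1]), (16, [0, 0, 0, 0, -1])]), (11, [(11, [1])]), (5, [(5, [1])]), (16, [(16, [1])]), (1, [(0, [1])])]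
  dn := [0, 0, 0, 0, 0, 0, 1, 0, 1, -1, 1, -1, 3, -1, 2, -2, 2, -1, 3, -1, 1, -1, 1, 0, 1]
  den := 1

theorem ok2 : c2.ok (data.t.cls data.t.o) data.bb data.kk := by decide +kernel

theorem dvd2 : pDvd c2.den c2.dn := by decide +kernel

/-- `1*q^7*P3^2*P8*P10*P12*P18 / 3` (`Pn` the cyclotomic polynomials) -/
def c3 : Crt 17 where
  th := [-1, 0, 0, -1]
  nu c := ([[0, 0, 0, 0, 0, 0, 0, 0, 0, 0, 0, 0, 0, 0, 0, 0, 0, 0, 1, 1, 1], [0, 0, 0, 0, 0, 0, 0, 0, 0, 0, 0, 0, 0, 0, 0, 0, 0, -1], [0, 0, 0, 0, 0, 0, 0, 0, 0, 0, 0, 0, 0, 0, 0, -1], [0, 0, 0, 0, 0, 0, 0, 0, 0, 0, 0, 0, 0, 0, 1], [0, 0, 0, 0, 0, 0, 0, 0, 0, 0, 0, 0, 1, 1, 1], [0, 0, 0, 0, 0, 0, 0, 0, 0, 0, 0, 0, 0, -1], [0, 0, 0, 0, 0, 0, 0, 0, 0, 0, 0, -1], [0, 0, 0, 0, 0, 0, 0, 0, 0, 0, 0, -1], [0, 0, 0, 0, 0, 0, 0, 0,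 0, 0, 1], [0, 0, 0, 0, 0, 0, 0, 0, 0, -1], [0, 0, 0, 0, 0, 0, 0, 0, 0, -1], [0, 0, 0, 0, 0, 0, 0, -1], [0, 0, 0, 0, 0, 0, 1], [0, 0, 0, 0, 0, 0, 1, 1, 1], [0, 0, 0, 0, 0, -1], [0, 0, 0, -1], [1, 1, 1]] : List (List ℤ)).getD c []
  steps := [(12, [(0, [-1, -1, -4, -4, -3, -2, 4, 5, 10, 10, 5, 3, -3, -3, -2, -1]), (1, [1, 2, 6, 11, 14, 21, 23, 23, 22, 16, 15, 10, 8, 8, 5, 6, 4, 2, 1]), (2, [0, 0, -1, -3, -7, -14, -20, -28, -34, -35, -34, -26, -18, -9, -1, 2, 5, 4, 2, 1]), (3, [0, 0, 0, 0, -1, -1, -4, -6, -9, -15, -17, -24, -26, -28, -29, -24, -22, -15, -10, -6, -2, -1]), (4, [0, 0, 0, 0, 0, 0, 1, 4, 7, 11, 15, 17, 16, 10, 2, -5, -8, -6, -3, -1]), (5, [0, 0, 0, 0, 0, 1, 1, 5, 5, 10, 12, 13, 17, 12, 16, 10, 10, 7, 4, 4, 1, 1]), (6, [0, 0, 0, 0, 0, 0, 0, 0, 2, 4, 8, 15, 22, 29,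 32, 32, 29, 22, 15, 8, 3, 1]), (7, [0, 0, 0, 0, 0, 0, 0, 0, 2, 3, 5, 7, 9, 11, 12, 12, 11, 9, 7, 5, 2, 1]), (8, [0, 0, 0, 0, 0, 0, 0, 0, -1, -1, -4, -7, -12, -18, -23, -27, -28, -26, -22, -16, -10, -6, -2, -1]), (9, [0, 0, 0, 0, 0, 0, 0, 0, 0, -1, -2, -4, -6, -7, -8, -6, -3, 0, 3, 4, 5, 4, 2, 1]), (10, [0, 0, 0, 0, 0, 0, 0, 0, 0, -1, -2, -4, -5, -5, -3, 0, 4, 7, 9, 9, 7, 5, 2, 1]), (11, [0, 0, 0, 0, 0, 0, 0, 0, 0, 0, 0, 0, -2, -2, -6, -9, -13, -16, -16, -16, -13, -9, -6, -2, -1]), (13, [0, 0, 0, 0, 0, 0, 0, 0, 0, 0, 0, 0, 0, 1, 3, 5, 5, 2, -3, -7, -8, -6, -3, -1]), (15, [0, 0, 0, 0, 0, 0, 0, 0, 0, 0, 0, 0, 0, 0, 0, -1, -2, -2, -1, 0, 1, 2, 3, 3, 2, 1]), (16, [0, 0, 0, 0, 0, 0, 0, 0, 0, 0, 0, 0, 0, 0, 0, 0, 0, 0, 1, 2, 2, 0, -2, -3, -2, -1])]), (3, [(0, [1, 1, 1, 0, -2, -1,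 -2]), (1, [-1, -2, -2, -3, -2, -2, -1, 0, 0, 1]), (2, [0, 0, 0, 1, 2, 4, 4, 3, 2, 1, 1]), (3, [0, 0, 1, 1, 2, 1, 1, 1, 1, 2, 1, 1]), (4, [0, 0, 0, 0, 0, 0, 0, -1, -2, -2, -1]), (5, [0, 0, 0, -1, -1, -3, 0, -1, 2, -1, 0, -1]), (6, [0, 0, 0, 0, 0, 0, -1, -2, -3, -3, -2, -1]), (7, [0, 0, 0, 0, 0, 0, 0, 0, -1, -2, -2, -1]), (8, [0, 0, 0, 0, 0, 0, 0, 0, 1, 2, 3, 3, 2, 1]), (9, [0, 0, 0, 0, 0, 0, 0, 1, 2, 2, 0, -2, -2, -1]), (11, [0, 0, 0, 0, 0, 0, 0, 0, 0, 0, 1, 1, 2, 1, 1])]), (8, [(0, [1, 0, 1, -1]), (1, [-1, -1, -1, -1, -1, -1]), (3, [0, 0, 1, 1, 2, 2, 2, 2, 1, 1]), (5, [0, 0, 0, -1, -1, -3, -1, -2, 0, -1]), (6, [0, 0, 0, 0, 0, 0, -1, -2, -2, -1]), (9, [0, 0, 0, 0, 0, 0, 0, 1, 2, 2, 1]), (11, [0, 0, 0, 0, 0, 0, 0, 0, 0, 0, 1, 1, 1])]), (9, [(5, [-1]), (9, [0, 0, 0, 1, 1])]),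 (6, [(6, [1, 1]), (11, [0, 0, 0, 0, -1])]), (10, [(0, [-1, 1, 0, 2]), (1, [1, 0, 0, 0, 0, 0, -1]), (2, [0, 0, -1, -1, -1, -1, -1, -1]), (4, [0, 0, 0, 0, 1, 2, 2, 1]), (7, [0, 0, 0, 0, -1, -1, -1, -1, -1, -1])]), (7, [(0, [1, -1, 3, -3, 2, -5, 0, -2]), (1, [-1, 0, -3, -1, -2, -1, 0, -1, 2, 0, 1]), (2, [0, 0, 1, 1, 3, 3, 4, 4, 3, 3, 1, 1]), (4, [0, 0, 0, 0, 0, 0, -1, -2, -3, -3, -2, -1])]), (15, [(13, [-1, -1, -1, -1]), (14, [1, 0, 2, 1, 1, 2, 0, 1]), (15, [0, 1, -1, 2, -2, 0, 1, -3, 1, -1]), (16, [0, 0, 0, 0, -1, 1, -2, 3, -1, 1])]), (14, [(15, [1, 0, 0, 1]), (16, [0, 0, 0, -1])]), (13, [(13, [1])]), (2, [(0, [-1]), (1, [1, 0, 0, 1])]), (4, [(4, [1])]), (5, [(5, [1])]), (11, [(11, [1])]), (16, [(16, [1])]), (1, [(0, [1])])]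
  dn := [0, 0, 0, 0, 0, 0, 0, 1, 1, 1, -2, 0, 1, 6, 0, -1, -5, 5, 4, 5, -5, -1, 0, 6, 1, 0, -2, 1, 1, 1]
  den := 3

theorem ok3 : c3.ok (data.t.cls data.t.o) data.bb data.kk := by decide +kernel

theorem dvd3 : pDvd c3.den c3.dn := by decide +kernel

/-- `1*q^7*P2^4*P6^2*P8*P10*P18 / 2` (`Pn` the cyclotomic polynomials) -/
def c4 : Crt 17 where
  th := [-1]
  nu c := ([[0, 0, 0, 0, 0, 0, 0, 0, 0, 0, 0, 0, 0, 0, 0, 0, 0, 0, 1, 1, 1, 1, 1, 1], [0, 0, 0, 0, 0, 0, 0, 0, 0, 0, 0, 0, 0, 0, 0, 0, 0, -1], [0, 0, 0, 0, 0, 0, 0, 0, 0, 0, 0, 0, 0, 0, 0, -1, 0, -1], [0, 0, 0, 0, 0, 0, 0, 0, 0, 0, 0, 0, 0, 0, 1, 0, 0, -1], [0, 0, 0, 0, 0, 0, 0, 0, 0, 0, 0, 0, 1, 0, 1, 0, 1], [0, 0, 0, 0, 0, 0, 0, 0, 0, 0, 0, 0, 0, 0, 0, 1, 1], [0, 0, 0, 0, 0, 0, 0, 0, 0, 0, 0, -1, 1, 0, 1], [0, 0, 0,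 0, 0, 0, 0, 0, 0, 0, 0, -1, 1, 0, 1], [0, 0, 0, 0, 0, 0, 0, 0, 0, 0, 1, -1, 1, -1], [0, 0, 0, 0, 0, 0, 0, 0, 0, -1, 0, -1, 1], [0, 0, 0, 0, 0, 0, 0, 0, 0, -1, 0, -1, 1], [0, 0, 0, 0, 0, 0, 0, -1, -1], [0, 0, 0, 0, 0, 0, 1, 0, 0, -1], [0, 0, 0, 0, 0, 0, 0, -1, 0, -1, 0, -1], [0, 0, 0, 0, 0, 0, 1, 0, 1], [0, 0, 0, 0, 0, 0, 1], [-1, -1, -1, -1, -1, -1]] : List (List ℤ)).getD c []
  steps := [(12, [(0, [1, -1, -1, -2, 0, 0, 2, -3, -3, 1, 4, -2, -4, -1, 2, 1]), (1, [-1, 0, 0, 1, 1, 1, -1, 2, 3, -1, -2, 2, 4, 0, -1, 0, 1, -1, -1, -1]), (2, [0, 0, 1, 1, 1, 0, 1, 1, 2, -1, -1, 2, 2, 0, 0, 2, 1, 1, 0, 0, -1]), (3, [0, 0, 0, 0, 0, 0, -1, 1, 0, 1, 0, 1, 0, -1, -1, -1, 0, 0, 1, -1, 0, 0, 1]), (4, [0, 0, 0, 0, 0, 0, -1, -2, -1, 1, -2, -3, 1, 2, -2, -3, 0, 1, 1, 1, 1]), (5, [0, 0, 0, 0,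 0, -1, 0, -1, 0, -1, -1, 0, 2, 0, -2, 1, 1, -2, -3, 1, 1, 0, -1]), (6, [0, 0, 0, 0, 0, 0, 0, 0, -1, -2, 0, -2, -3, -1, 1, -1, -2, 0, 1, 1, 0, 1, 1, 1]), (7, [0, 0, 0, 0, 0, 0, 0, 0, -1, -1, 2, 0, -2, 0, 3, 1, -2, -2, -1, 0, -1, -1, -1]), (8, [0, 0, 0, 0, 0, 0, 0, 0, 1, 1, 0, 2, -1, -1, -1, -1, -1, 1, 1, -1, 0, -1, 0, 0, 1]), (9, [0, 0, 0, 0, 0, 0, 0, 0, 0, 1, 1, 0, 0, 0, 1, -1, -2, 1, 3, 0, -1, 2, 2, 0, -1]), (10, [0, 0, 0, 0, 0, 0, 0, 0, 0, 1, 1, 0, 0, 1, 3, 1, -1, 1, 3, 0, -2, 0, 0, -1, -1]), (11, [0, 0, 0, 0, 0, 0, 0, 0, 0, 0, 0, 0, 1, 2, 0, 2, 3, 1, -1, 1, 2, 0, -1, -1, 0, -1, -1, -1]), (13, [0, 0, 0, 0, 0, 0, 0, 0, 0, 0, 0, 0, 0, -1, -1, 2, 2, -2, -2, 2, 2, 0, 1, 2, 1]), (14, [0, 0, 0, 0, 0, 0, 0, 0, 0, 0, 0, 0, 0, 0, -1, -2, 0, 1, -2, -3, -1, -1, -2, -1]), (15, [0, 0,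 0, 0, 0, 0, 0, 0, 0, 0, 0, 0, 0, 0, 0, 0, 0, 0, -1, -1, 1, 0, -2, -1, 0, -1, -1]), (16, [0, 0, 0, 0, 0, 0, 0, 0, 0, 0, 0, 0, 0, 0, 0, 0, 0, 0, 1, 1, -1, 0, 2, 1, 0, 1, 1])]), (8, [(0, [1, -2, 1, -3, 3, -2, 3, -3, 2]), (1, [-1, 1, -1, 2, -1, 1, -1, 2, -2, -1, 2, -3, 3, -2, 1]), (2, [0, 0, 1, 0, 1, -1, 2, -2, 1, -2, 1, 0, -3, 4, -3, 1]), (3, [0, 0, 0, 0, 0, 0, -1, 3, -3, 4, -2, 1, 1, -3, 3, -4, 2, -1]), (4, [0, 0, 0, 0, 0, 0, -1, 0, 0, 0, -1, 2, 0, -1, 2, -1]), (5, [0, 0, 0, 0, 0, -1, 1, -2, 3, -3, 2, 2, 0, 2, -1, 4, -2, 1]), (6, [0, 0, 0, 0, 0, 0, 0, -1, -1, -1, 0, -4, 0, -1, -2, 0, -2, 1, -1]), (7, [0, 0, 0, 0, 0, 0, 0, -1, 0, 0, 0, -1, 2, 0, -1, 2, -1]), (8, [0, 0, 0, 0, 0, 0, 0, 1, 0, 1, 0, 1, -2, 1, -1, -2, 2, -2, 1]), (9, [0, 0, 0, 0, 0, 0, 0, 0, 0, 1, 0, -1, 0, -1, 0,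 -3, -1, 1, -2]), (11, [0, 0, 0, 0, 0, 0, 0, 0, 0, 0, 0, 1, 1, 1, 0, 4, 0, 1, 2, 0, 2, -1, 1])]), (3, [(0, [1, -2, 1]), (1, [-1, 1, 0, -1, 1]), (3, [0, 0, 1, -1, 1, 0, -1, 1, -1]), (5, [0, 1, 0, 1, 0, 1, 1, -1, 1]), (6, [0, 0, 0, 0, 0, 0, -1, 0, 0, -1]), (9, [0, 0, 0, 0, 0, -1, -1, 0, -1, -1]), (11, [0, 0, 0, 0, 0, 0, 0, 0, 0, 0, 1, 0, 0, 1])]), (9, [(5, [-1]), (9, [0, 0, 0, 0, 1])]), (6, [(6, [1]), (11, [0, 0, 0, 0, -1])]), (10, [(0, [1, -1, -1, -1]), (1, [-1, 0, 0, 0, 0, 0, 1]), (2, [0, 0, 1, 1, 1, 1, 1, 1]), (7, [0, 0, 0, 0, 0, 0, -1, -1, -1, -1, -1, -1])]), (14, [(13, [1, 1]), (14, [-1, 0, 0, 0, 0, -1]), (15, [0, 0, 0, 0, -1, 1, -1, 1, -1]), (16, [0, 0, 0, 0, 1, -1, 1, -1, 1])]), (7, [(0, [1, -2, 1, -2, 1, -2, 0, -1]), (1, [-1, 1, -1, 1, 0, 1, 2, 0, 2, 0, 1]), (2, [0, 0,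 1, 0, 1, 0, 1, 1, 0, 1, 0, 1]), (4, [0, 0, 0, 0, 0, 0, -1, -1, -1, -1, -1, -1])]), (13, [(13, [1])]), (2, [(0, [-1]), (1, [1, 0, 1, 0, 1])]), (4, [(4, [1])]), (5, [(5, [1])]), (15, [(15, [1]), (16, [-1])]), (11, [(11, [1])]), (16, [(16, [1])]), (1, [(0, [1])])]
  dn := [0, 0, 0, 0, 0, 0, 0, 1, 1, 0, 1, 2, 2, 1, 1, 2, 3, 2, 0, 2, 3, 2, 1, 1, 2, 2, 1, 0, 1, 1]
  den := 2

theorem ok4 : c4.ok (data.t.cls data.t.o) data.bb data.kk := by decide +kernel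

theorem dvd4 : pDvd c4.den c4.dn := by decide +kernel

end Cfsg.Agent.H996.Eight.TabTwEc
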